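import Cfsg.Agent.Lib.CurtisRichen.Main
import Cfsg.Agent.Lib.ChevFixed.Data
import Cfsg.Agent.Lib.ChevStructure.CommGL

/-! The number of classes of p'-elements for the data with simply connected adjoint group. -/

set_option autoImplicit false

namespace Cfsg.Agent.Lib.CurtisRichen

open Cfsg.Lie Cfsg.Agent.Lib.ChevStructure Cfsg.Agent.Lib.ChevFixed

theorem invCartan_E6 : InvCartan chevE6 3 [[4, 3, 5, 6, 4, 2], [3, 6, 6, 9, 6, 3], [5, 6, 10, 12, 8, 4],
    [6, 9, 12, 18, 12, 6], [4, 6, 8, 12, 10, 5], [2, 3, 4, 6, 5, 4]] := by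
  unfold InvCartan; decide +kernel

theorem card_classes (D : ChevalleyDatum) (hD : D ∈ [chevG2, chevB2, chevD4, chevF4, chevE6, chevE7, chevE8])
    {F : Type*} [Field F] [Fintype F] (p : ℕ) [Fact p.Prime] [CharP F p] {d : ℕ} {B : List (List ℤ)}
    (hB : InvCartan D d B) (hd : ∀ x : Fˣ, x ^ d = 1 → x = 1) :
    Nat.card {c : ConjClasses ↥(D.group F) // ∃ g : ↥(D.group F), ConjClasses.mk g = c ∧ (orderOf g).Coprime p} =
      Fintype.card F ^ D.rank := by
  obtain ⟨⟨C, H⟩⟩ := nonempty_sys D hD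
  rw [card_pRegular_classes H (fun c c' h => HT_injective C hB hd h) p, Nat.card_eq_fintype_card]

theorem sq_eq_one_of_two {F : Type*} [Field F] [CharP F 2] (x : Fˣ) (h : x ^ 2 = 1) : x = 1 := by
  have h1 : ((x : F) + 1) ^ 2 = 0 := by
    rw [CharTwo.add_sq, ← Units.val_pow_eq_pow_val, h, Units.val_one, one_pow, CharTwo.add_self_eq_zero]
  exact Units.ext (CharTwo.add_eq_zero.1 (pow_eq_zero_iff two_ne_zero |>.1 h1))

theorem cube_eq_one {F : Type*} [Field F] [Fintype F] (hq : Fintype.card F % 3 ≠ 1) (x : Fˣ) (h : x ^ 3 = 1) :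
    x = 1 := by
  rcases (Nat.dvd_prime Nat.prime_three).1 (orderOf_dvd_of_pow_eq_one h) with h1 | h3
  · exact orderOf_eq_one_iff.1 h1
  · exfalso
    classical
    have h2 : orderOf x ∣ Fintype.card Fˣ := orderOf_dvd_card
    rw [h3, Fintype.card_units] at h2
    have := Fintype.card_pos (α := F)
    omega

end Cfsg.Agent.Lib.CurtisRichen
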