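import Mathlib.LinearAlgebra.Trace
import Mathlib.LinearAlgebra.Matrix.Permutation
import Mathlib.RingTheory.SimpleModule.Basic
import Mathlib.RingTheory.Artinian.Ring
import Mathlib.RepresentationTheory.AlgebraRepresentation.Basic
import Mathlib.GroupTheory.Sylow
import Mathlib.GroupTheory.GroupAction.Quotient
import Mathlib.Algebra.CharP.Lemmas
import Mathlib.Algebra.CharP.Algebra
import Mathlib.Algebra.MonoidAlgebra.Basic
import Mathlib.FieldTheory.IsAlgClosed.Basic

/-!
Brauer's count: over an algebraically closed field of characteristic p a finite group has as many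
simple modules as classes of p-regular elements.
-/

set_option autoImplicit false
set_option linter.unusedSectionVars false

namespace Cfsg.Agent.Lib.CurtisRichen.Brauer

open MonoidAlgebra Module

/-- The classes of elements of order prime to `p`. -/
abbrev PReg (G : Type*) [Group G] (p : ℕ) : Type _ :=
  {c : ConjClasses G // ∃ g : G, ConjClasses.mk g = c ∧ (orderOf g).Coprime p}

variable {k : Type*} [Field k] [IsAlgClosed k] {G : Type*} [Group G] [Finite G] (p : ℕ) [Fact p.Prime]
  [CharP k p]

/-- Splitting off the p-part. -/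
theorem exists_split (g : G) : ∃ s u : G, g = s * u ∧ Commute s u ∧ (orderOf s).Coprime p ∧
    ∃ e, u ^ p ^ e = 1 := by
  obtain ⟨e, m, hm, hn⟩ := Nat.exists_eq_pow_mul_and_not_dvd (orderOf_pos g).ne' p (Fact.out : p.Prime).ne_one
  have hco : IsCoprime ((p ^ e : ℕ) : ℤ) (m : ℤ) :=
    Nat.Coprime.isCoprime (Nat.Coprime.pow_left _ (((Fact.out : p.Prime).coprime_iff_not_dvd).2 hm))
  obtain ⟨a, b, hab⟩ := hco
  refine ⟨g ^ (a * (p ^ e : ℕ)), g ^ (b * m), ?_, ?_, ?_, e, ?_⟩
  · rw [← zpow_add, hab, zpow_one]
  · exact (Commute.refl g).zpow_zpow _ _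
  · refine Nat.Coprime.coprime_dvd_left (orderOf_dvd_of_pow_eq_one (n := m) ?_)
      (((Fact.out : p.Prime).coprime_iff_not_dvd).2 hm).symm
    rw [← zpow_natCast, ← zpow_mul, ← orderOf_dvd_iff_zpow_eq_one, hn]
    exact ⟨a, by push_cast; ring⟩
  · rw [← zpow_natCast, ← zpow_mul, ← orderOf_dvd_iff_zpow_eq_one, hn]
    exact ⟨b, by push_cast; ring⟩

theorem trace_split {V : Type*} [AddCommGroup V] [Module k V] [FiniteDimensional k V]
    (ρ : G →* Module.End k V) {s u : G} (h : Commute s u) {e : ℕ} (hu : u ^ p ^ e = 1) :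
    LinearMap.trace k V (ρ (s * u)) = LinearMap.trace k V (ρ s) := by
  rcases subsingleton_or_nontrivial V with hV | hV
  · simp [Subsingleton.elim (ρ (s * u)) (ρ s)]
  haveI : CharP (Module.End k V) p :=
    charP_of_injective_algebraMap (algebraMap k (Module.End k V)).injective p
  have hnil : IsNilpotent (ρ u - 1) := by
    refine ⟨p ^ e, ?_⟩
    rw [sub_pow_char_pow_of_commute p e (Commute.one_right (ρ u)), ← map_pow, hu, map_one, one_pow, sub_self]
  have hc : Commute (ρ s) (ρ u - 1) := ((h.map ρ)).sub_right (Commute.one_right _)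
  have h0 := (LinearMap.isNilpotent_trace_of_isNilpotent (hc.isNilpotent_mul_left hnil)).eq_zero
  rw [mul_sub, mul_one, map_sub, sub_eq_zero, ← map_mul] at h0
  exact h0

theorem eq_smul_trace {V : Type*} [AddCommGroup V] [Module k V] [FiniteDimensional k V]
    (L : Module.End k V →ₗ[k] k) (hL : ∀ x y, L (x * y) = L (y * x)) :
    ∃ c : k, L = c • LinearMap.trace k V := by
  classical
  let b := Module.finBasis k V
  by_cases hn : Nonempty (Fin (finrank k V))
  · obtain ⟨i₀⟩ := hn
    refine ⟨L ((b.coord i₀).smulRight (b i₀)), ?_⟩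
    have key : ∀ (v : V) (g : Module.Dual k V),
        L (g.smulRight v) = g v * L ((b.coord i₀).smulRight (b i₀)) := by
      intro v g
      have e1 : ((b.coord i₀).smulRight v : Module.End k V) * g.smulRight (b i₀) = g.smulRight v := by
        ext x; simp
      have e2 : (g.smulRight (b i₀) : Module.End k V) * (b.coord i₀).smulRight v =
          g v • (b.coord i₀).smulRight (b i₀) := by
        ext x; simp [smul_smul, mul_comm]
      rw [← e1, hL, e2, map_smul, smul_eq_mul]
    refine LinearMap.ext fun X => ?_
    have hX : X = ∑ j, (b.coord j).smulRight (X (b j)) := by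
      refine b.ext fun l => ?_
      simp [Finsupp.single_apply]
    rw [hX]
    simp only [map_sum, LinearMap.smul_apply, smul_eq_mul, Finset.mul_sum]
    refine Finset.sum_congr rfl fun j _ => ?_
    rw [key, LinearMap.trace_smulRight, mul_comm]
  · refine ⟨0, LinearMap.ext fun X => ?_⟩
    have : X = 0 := b.ext fun l => absurd ⟨l⟩ hn
    simp [this]

theorem exists_separating (s : G) (hs : (orderOf s).Coprime p) :
    ∃ L : MonoidAlgebra k G →ₗ[k] k, (∀ x y, L (x * y) = L (y * x)) ∧ (∀ x, IsNilpotent x → L x = 0) ∧
      L (of k G s) ≠ 0 ∧ ∀ t, (orderOf t).Coprime p → ConjClasses.mk t ≠ ConjClasses.mk s →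
        L (of k G t) = 0 := by
  classical
  let C : Subgroup G := Subgroup.centralizer ({s} : Set G)
  let Q : Sylow p C := default
  let P : Subgroup G := (Q : Subgroup C).map C.subtype
  haveI : Fintype (G ⧸ P) := Fintype.ofFinite _
  have hPC : P ≤ C := Subgroup.map_subtype_le _
  have hcomm : ∀ x ∈ P, x * s = s * x := fun x hx => (Subgroup.mem_centralizer_iff.1 (hPC hx) s rfl).symm
  have hPp : IsPGroup p P := Q.2.map _
  let R : Equiv.Perm (G ⧸ P) :=
    { toFun := Quotient.map' (fun x => x * s⁻¹) fun x y h => by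
        rw [QuotientGroup.leftRel_apply] at h ⊢
        have h1 := hcomm _ h
        have : (x * s⁻¹)⁻¹ * (y * s⁻¹) = x⁻¹ * y := by
          calc (x * s⁻¹)⁻¹ * (y * s⁻¹) = s * (x⁻¹ * y) * s⁻¹ := by group
            _ = _ := by rw [← h1]; group
        rwa [this]
      invFun := Quotient.map' (fun x => x * s) fun x y h => by
        rw [QuotientGroup.leftRel_apply] at h ⊢
        have h1 := hcomm _ h
        have : (x * s)⁻¹ * (y * s) = x⁻¹ * y := by
          calc (x * s)⁻¹ * (y * s) = s⁻¹ * ((x⁻¹ * y) * s) := by group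
            _ = _ := by rw [h1]; group
        rwa [this]
      left_inv := fun q => Quotient.inductionOn' q fun x => by simp
      right_inv := fun q => Quotient.inductionOn' q fun x => by simp }
  have hR : ∀ x : G, R (x : G ⧸ P) = ((x * s⁻¹ : G) : G ⧸ P) := fun x => rfl
  let M : Equiv.Perm (G ⧸ P) →* Matrix (G ⧸ P) (G ⧸ P) k :=
    { toFun := fun e => e⁻¹.permMatrix k
      map_one' := by simp
      map_mul' := fun a b => by rw [mul_inv_rev, Matrix.permMatrix_mul] }
  let ρ : MonoidAlgebra k G →ₐ[k] Matrix (G ⧸ P) (G ⧸ P) k :=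
    MonoidAlgebra.lift k _ G (M.comp (MulAction.toPermHom G (G ⧸ P)))
  have hρ : ∀ g, ρ (of k G g) = M (MulAction.toPerm g) := fun g => by
    simp only [ρ, MonoidAlgebra.lift_of]
    rfl
  have hcommute : ∀ a, Commute (ρ a) (M R) := by
    intro a
    induction a using MonoidAlgebra.induction_on with
    | of g =>
      show ρ (of k G g) * M R = M R * ρ (of k G g)
      rw [hρ, ← map_mul, ← map_mul]
      congr 1
      refine Equiv.ext fun q => ?_
      induction q using QuotientGroup.induction_on with
      | _ x =>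
        simp only [Equiv.Perm.mul_apply, MulAction.toPerm_apply, hR, MulAction.Quotient.smul_coe, smul_eq_mul,
          mul_assoc]
    | add a b ha hb => rw [map_add]; exact ha.add_left hb
    | smul r a ha => rw [map_smul]; exact ha.smul_left r
  refine ⟨(Matrix.traceLinearMap (G ⧸ P) k k).comp ((LinearMap.mulRight k (M R)).comp ρ.toLinearMap),
    fun x y => ?_, fun x hx => ?_, ?_⟩
  · show Matrix.trace (ρ (x * y) * M R) = Matrix.trace (ρ (y * x) * M R)
    rw [map_mul, map_mul, mul_assoc, (hcommute y).eq, ← mul_assoc, Matrix.trace_mul_comm, mul_assoc]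
  · exact (Matrix.isNilpotent_trace_of_isNilpotent ((hcommute x).isNilpotent_mul_right (hx.map ρ))).eq_zero
  have hL : ∀ t : G, Matrix.trace (ρ (of k G t) * M R) =
      ((Function.fixedPoints ⇑((MulAction.toPerm t * R : Equiv.Perm (G ⧸ P))⁻¹)).ncard : k) := by
    intro t
    rw [hρ, ← map_mul]
    exact Matrix.trace_permutation _
  have hfix : ∀ t : G, (orderOf t).Coprime p →
      Function.fixedPoints ⇑((MulAction.toPerm t * R : Equiv.Perm (G ⧸ P))⁻¹) =
        (fun x : G => (x : G ⧸ P)) '' {x | x⁻¹ * t * x = s} := by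
    intro t ht
    ext q
    induction q using QuotientGroup.induction_on with
    | _ x =>
      rw [Function.mem_fixedPoints, Function.IsFixedPt, Equiv.Perm.inv_eq_iff_eq, eq_comm,
        Equiv.Perm.mul_apply, MulAction.toPerm_apply, hR, MulAction.Quotient.smul_coe, smul_eq_mul,
        QuotientGroup.eq]
      constructor
      · intro hmem
        refine ⟨x, ?_, rfl⟩
        set v := (t * (x * s⁻¹))⁻¹ * x with hv
        have hvs : Commute s v := (hcomm v hmem).symm
        obtain ⟨e, he⟩ := hPp ⟨v, hmem⟩
        have hconj : x⁻¹ * t * x = v⁻¹ * s := by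
          calc x⁻¹ * t * x = (x⁻¹ * t * (x * s⁻¹)) * s := by group
            _ = _ := by rw [hv]; group
        have hov : (orderOf v⁻¹).Coprime (orderOf s) := by
          rw [orderOf_inv]
          have hvd : orderOf v ∣ p ^ e := orderOf_dvd_of_pow_eq_one (congrArg Subtype.val he)
          exact (Nat.Coprime.coprime_dvd_left hvd (Nat.Coprime.pow_left _ hs.symm))
        have ho : orderOf t = orderOf v⁻¹ * orderOf s := by
          rw [← hvs.symm.inv_left.orderOf_mul_eq_mul_orderOf_of_coprime hov, ← hconj,
            show x⁻¹ * t * x = MulAut.conj x⁻¹ t by simp, MulEquiv.orderOf_eq]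
        have hv1 : orderOf v⁻¹ = 1 := by
          rw [orderOf_inv] at ho ⊢
          refine Nat.eq_one_of_dvd_coprimes (ht.symm.pow_left e) (orderOf_dvd_of_pow_eq_one (congrArg Subtype.val he)) ?_
          exact ⟨_, ho⟩
        rw [Set.mem_setOf_eq, hconj, orderOf_eq_one_iff.1 hv1, one_mul]
      · rintro ⟨y, hy, hyx⟩
        rw [QuotientGroup.eq] at hyx
        have h1 := hcomm _ hyx
        have hx : x⁻¹ * t * x = s := by
          calc x⁻¹ * t * x = (y⁻¹ * x)⁻¹ * (y⁻¹ * t * y) * (y⁻¹ * x) := by group
            _ = (y⁻¹ * x)⁻¹ * (s * (y⁻¹ * x)) := by rw [hy]; group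
            _ = s := by rw [← h1]; group
        have : (t * (x * s⁻¹))⁻¹ * x = 1 := by
          calc (t * (x * s⁻¹))⁻¹ * x = s * (x⁻¹ * t * x)⁻¹ := by group
            _ = 1 := by rw [hx, mul_inv_cancel]
        rw [this]
        exact one_mem _
  refine ⟨?_, fun t ht hne => ?_⟩
  · show Matrix.trace _ ≠ 0
    show Matrix.trace (ρ (of k G s) * M R) ≠ 0
    rw [hL, hfix s hs, Ne, CharP.cast_eq_zero_iff k p]
    have e : (fun x : G => (x : G ⧸ P)) '' {x | x⁻¹ * s * x = s} =
        Set.range (Quotient.map' (fun x : C => (x : G)) (s₁ := QuotientGroup.leftRel (Q : Subgroup C))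
          (s₂ := QuotientGroup.leftRel P) fun a b h => by
            rw [QuotientGroup.leftRel_apply] at h ⊢
            exact ⟨_, h, by simp⟩) := by
      ext q
      constructor
      · rintro ⟨x, hx, rfl⟩
        have hx' : x ∈ C := Subgroup.mem_centralizer_iff.2 fun y hy => by
          rw [Set.mem_singleton_iff] at hy
          subst hy
          calc y * x = x * (x⁻¹ * y * x) := by group
            _ = x * y := by rw [hx]
        exact ⟨((⟨x, hx'⟩ : C) : C ⧸ (Q : Subgroup C)), rfl⟩
      · rintro ⟨z, rfl⟩
        induction z using QuotientGroup.induction_on with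
        | _ x =>
          refine ⟨x, ?_, rfl⟩
          have := Subgroup.mem_centralizer_iff.1 x.2 s rfl
          show (x : G)⁻¹ * s * x = s
          rw [mul_assoc, this, inv_mul_cancel_left]
    rw [e, Set.ncard_range_of_injective]
    · exact Q.not_dvd_index
    · intro a b hab
      induction a using QuotientGroup.induction_on with
      | _ a =>
      induction b using QuotientGroup.induction_on with
      | _ b =>
      have h := QuotientGroup.eq.1 hab
      obtain ⟨z, hz, hzz⟩ := h
      rw [QuotientGroup.eq]
      have : z = a⁻¹ * b := Subtype.ext (by simpa using hzz)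
      exact this ▸ hz
  · show Matrix.trace (ρ (of k G t) * M R) = 0
    rw [hL, hfix t ht]
    have : {x : G | x⁻¹ * t * x = s} = ∅ := Set.eq_empty_of_forall_notMem fun x hx =>
      hne (ConjClasses.mk_eq_mk_iff_isConj.2 (isConj_iff.2 ⟨x⁻¹, by simpa using hx⟩))
    simp [this]

variable {p}

/-- Brauer: the number of simple modules is the number of p-regular classes. -/
theorem card_pRegular {ι : Type*} [Finite ι] (m : ι → Ideal (MonoidAlgebra k G))
    (hmax : ∀ i, (m i).IsMaximal)
    (hsep : ∀ i j, Nonempty ((MonoidAlgebra k G ⧸ m i) ≃ₗ[MonoidAlgebra k G] (MonoidAlgebra k G ⧸ m j)) → i = j)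
    (hcompl : ∀ n : Ideal (MonoidAlgebra k G), n.IsMaximal →
      ∃ i, Nonempty ((MonoidAlgebra k G ⧸ n) ≃ₗ[MonoidAlgebra k G] (MonoidAlgebra k G ⧸ m i))) :
    Nat.card (PReg G p) = Nat.card ι := by
  classical
  cases nonempty_fintype ι
  haveI : Finite (ConjClasses G) := Finite.of_surjective ConjClasses.mk ConjClasses.mk_surjective
  cases nonempty_fintype (PReg G p)
  let A := MonoidAlgebra k G
  let W : ι → Type _ := fun i => A ⧸ m i
  haveI : ∀ i, IsSimpleModule A (W i) := fun i => isSimpleModule_iff_isCoatom.mpr (hmax i).out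
  haveI : FiniteDimensional k A := inferInstance
  -- the product of the actions is onto
  have hsurj : ∀ f : ∀ i, Module.End k (W i), ∃ a : A, ∀ i (w : W i), a • w = f i w := by
    intro f
    have hend : ∀ (φ : Module.End A (∀ i, W i)) (i j : ι), i ≠ j →
        (LinearMap.proj j).comp (φ.comp (LinearMap.single A W i)) = 0 := by
      intro φ i j hij
      rcases LinearMap.bijective_or_eq_zero ((LinearMap.proj j).comp (φ.comp (LinearMap.single A W i))) with h | h
      · exact absurd (hsep i j ⟨LinearEquiv.ofBijective _ h⟩) hij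
      · exact h
    let Φ : Module.End (Module.End A (∀ i, W i)) (∀ i, W i) :=
      { toFun := fun x i => f i (x i)
        map_add' := fun x y => by funext i; simp
        map_smul' := fun φ x => by
          funext j
          obtain ⟨c, hc⟩ := (IsSimpleModule.algebraMap_end_bijective_of_isAlgClosed (A := A) (V := W j) k).2
            ((LinearMap.proj j).comp (φ.comp (LinearMap.single A W j)))
          have hφ : ∀ y : ∀ i, W i, φ y j = c • y j := by
            intro y
            rw [← Finset.univ_sum_single y, map_sum, Finset.sum_apply, Finset.sum_eq_single j]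
            · have := LinearMap.congr_fun hc (y j)
              simp only [Module.algebraMap_end_apply] at this
              rw [Finset.univ_sum_single y]
              exact this.symm
            · exact fun i _ hij => LinearMap.congr_fun (hend φ i j hij) (y i)
            · simp
          show f j (φ x j) = φ (fun i => f i (x i)) j
          rw [hφ, hφ, map_smul] }
    haveI : IsSemisimpleModule A (∀ i, W i) := inferInstance
    let b := Module.finBasis k (∀ i, W i)
    obtain ⟨a, ha⟩ := jacobson_density Φ (Finset.univ.image b)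
    refine ⟨a, fun i w => ?_⟩
    have e : (Algebra.lsmul k k (∀ i, W i) a : Module.End k (∀ i, W i)) = LinearMap.pi fun i => (f i).comp (LinearMap.proj i) :=
      b.ext fun l => (ha (b l) (Finset.mem_image_of_mem _ (Finset.mem_univ l))).symm
    have := congrFun (LinearMap.congr_fun e (Pi.single i w)) i
    simpa using this
  let T : ι → A →ₗ[k] k := fun i => (LinearMap.trace k (W i)).comp (Algebra.lsmul k k (W i)).toLinearMap
  let ρ : ∀ i, G →* Module.End k (W i) := fun i =>
    (Algebra.lsmul k k (W i) : A →ₐ[k] Module.End k (W i)).toMonoidHom.comp (of k G)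
  choose rep hrep hrepc using fun c : PReg G p => c.2
  let Ψ : (ι → k) →ₗ[k] (PReg G p → k) :=
    { toFun := fun c x => ∑ i, c i * T i (of k G (rep x))
      map_add' := fun a b => by funext x; simp [add_mul, Finset.sum_add_distrib]
      map_smul' := fun r a => by funext x; simp [mul_assoc, Finset.mul_sum] }
  have hclass : ∀ (i : ι) (g h : G), ConjClasses.mk g = ConjClasses.mk h → T i (of k G g) = T i (of k G h) := by
    intro i g h hgh
    obtain ⟨c, hc⟩ := isConj_iff.1 (ConjClasses.mk_eq_mk_iff_isConj.1 hgh)
    show LinearMap.trace k _ (ρ i g) = LinearMap.trace k _ (ρ i h)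
    rw [← hc, map_mul, LinearMap.trace_mul_comm, ← map_mul, inv_mul_cancel_left]
  have hinj : Function.Injective Ψ := by
    rw [injective_iff_map_eq_zero]
    intro c hc
    have hg : ∀ g : G, ∑ i, c i * T i (of k G g) = 0 := by
      intro g
      obtain ⟨s, u, rfl, hcm, hs, e, hu⟩ := exists_split p g
      have hs' := congrFun hc ⟨ConjClasses.mk s, s, rfl, hs⟩
      refine Eq.trans (Finset.sum_congr rfl fun i _ => ?_) hs'
      congr 1
      show LinearMap.trace k _ (ρ i (s * u)) = _
      rw [trace_split p (ρ i) hcm hu]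
      exact hclass i _ _ (hrep ⟨ConjClasses.mk s, s, rfl, hs⟩).symm
    have hA : ∀ a : A, ∑ i, c i * T i a = 0 := by
      intro a
      induction a using MonoidAlgebra.induction_on with
      | of g => exact hg g
      | add a b ha hb => simp [mul_add, Finset.sum_add_distrib, ha, hb]
      | smul r a ha => simp [mul_left_comm _ r, ← Finset.mul_sum, ha]
    funext j
    haveI : Nontrivial (W j) := IsSimpleModule.nontrivial A (W j)
    let b := Module.finBasis k (W j)
    have i₀ : Fin (finrank k (W j)) := ⟨0, Module.finrank_pos⟩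
    obtain ⟨a, ha⟩ := hsurj (Function.update 0 j ((b.coord i₀).smulRight (b i₀)))
    have hT : ∀ i, T i a = if i = j then 1 else 0 := by
      intro i
      show LinearMap.trace k _ (Algebra.lsmul k k (W i) a) = _
      rw [show (Algebra.lsmul k k (W i) a : Module.End k (W i)) = _ from LinearMap.ext (ha i)]
      by_cases h : i = j
      · subst h; simp [LinearMap.trace_smulRight]
      · simp [h]
    simpa [hT] using hA a
  have hker : ∀ a : A, (∀ i, ∀ w : W i, a • w = 0) → IsNilpotent a := by
    intro a ha
    haveI : IsArtinianRing A := IsArtinianRing.of_finite k A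
    obtain ⟨N, hN⟩ := IsArtinianRing.isNilpotent_jacobson_bot (R := A)
    have hmem : a ∈ Ideal.jacobson (⊥ : Ideal A) := by
      rw [Ideal.jacobson, Submodule.mem_sInf]
      intro n hn
      obtain ⟨i, ⟨e⟩⟩ := hcompl n hn.2
      have h0 : a • Submodule.Quotient.mk (p := n) 1 = 0 := e.injective (by rw [map_smul, ha, map_zero])
      rwa [← Submodule.Quotient.mk_smul, smul_eq_mul, mul_one, Submodule.Quotient.mk_eq_zero] at h0
    refine ⟨N + 1, ?_⟩
    have hpow : ∀ t : ℕ, a ^ (t + 1) ∈ Ideal.jacobson (⊥ : Ideal A) ^ (t + 1) := by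
      intro t
      induction t with
      | zero => rwa [pow_one, Submodule.pow_one]
      | succ t ih => rw [pow_succ, Submodule.pow_succ]; exact Ideal.mul_mem_mul ih hmem
    have := hpow N
    rw [Submodule.pow_succ, hN] at this
    simpa using this
  have hsur : Function.Surjective Ψ := by
    rw [← LinearMap.range_eq_top, ← top_le_iff, ← (Pi.basisFun k (PReg G p)).span_eq, Submodule.span_le]
    rintro _ ⟨x, rfl⟩
    obtain ⟨L, hLs, hLn, hLx, hL0⟩ := exists_separating (k := k) p (rep x) (hrepc x)
    let π : A →ₐ[k] (∀ i, Module.End k (W i)) := Pi.algHom k _ fun i => Algebra.lsmul k k (W i)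
    have hπ : Function.Surjective π := fun f => by
      obtain ⟨a, ha⟩ := hsurj f
      exact ⟨a, funext fun i => LinearMap.ext (ha i)⟩
    obtain ⟨σ, hσ⟩ := π.toLinearMap.exists_rightInverse_of_surjective (LinearMap.range_eq_top.2 hπ)
    have hσ' : ∀ f, π (σ f) = f := fun f => LinearMap.congr_fun hσ f
    have hfac : ∀ a, L a = L (σ (π a)) := fun a => by
      rw [← sub_eq_zero, ← map_sub]
      refine hLn _ (hker _ fun i w => ?_)
      have := LinearMap.congr_fun (congrFun (hσ' (π a)) i) w
      rw [sub_smul, sub_eq_zero]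
      exact this.symm
    have hi : ∀ i, ∃ c : k, (L.comp σ).comp (LinearMap.single k (fun i => Module.End k (W i)) i) =
        c • LinearMap.trace k (W i) := fun i => eq_smul_trace _ fun f g => by
      simp only [LinearMap.comp_apply, LinearMap.coe_single]
      rw [Pi.single_mul, Pi.single_mul]
      obtain ⟨a, ha⟩ := hπ (Pi.single i f)
      obtain ⟨b, hb⟩ := hπ (Pi.single i g)
      rw [← ha, ← hb, ← map_mul, ← map_mul, ← hfac, ← hfac, hLs]
    choose c hc using hi
    have hLsum : ∀ a, L a = ∑ i, c i * T i a := by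
      intro a
      rw [hfac, ← Finset.univ_sum_single (π a), map_sum, map_sum]
      exact Finset.sum_congr rfl fun i _ => LinearMap.congr_fun (hc i) (π a i)
    have e : Ψ ((L (of k G (rep x)))⁻¹ • c) = Pi.basisFun k (PReg G p) x := by
      funext y
      rw [map_smul, Pi.smul_apply, Pi.basisFun_apply, smul_eq_mul]
      show _ * (∑ i, c i * T i _) = _
      rw [← hLsum]
      by_cases hy : y = x
      · subst hy; rw [inv_mul_cancel₀ hLx, Pi.single_eq_same]
      · rw [Pi.single_eq_of_ne hy, hL0 _ (hrepc y) fun h => hy (Subtype.ext (by rw [← hrep y, h, hrep x])),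
          mul_zero]
    exact ⟨_, e⟩
  have := (LinearEquiv.ofBijective Ψ ⟨hinj, hsur⟩).finrank_eq
  simp only [Module.finrank_fintype_fun_eq_card] at this
  rw [Nat.card_eq_fintype_card, Nat.card_eq_fintype_card, this]

end Cfsg.Agent.Lib.CurtisRichen.Brauer
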