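import Cfsg.Agent.Lib.CurtisRichen.Rep
import Mathlib.LinearAlgebra.Dual.Lemmas

/-!
Curtis–Richen: an irreducible module has one line fixed by U, and the weight on it determines the module.
-/

set_option autoImplicit false
set_option linter.unusedSectionVars false
set_option maxHeartbeats 80000

namespace Cfsg.Agent.Lib.CurtisRichen

open Cfsg.Lie Cfsg.Agent.Lib.ChevStructure
open scoped MatrixGroups Matrix

/-- The parameters: a character of each factor of the torus, or the second eigenvalue for a trivial one. -/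
abbrev Param (k : Type*) [Field k] (D : ChevalleyDatum) (F : Type*) [Field F] : Type _ :=
  Fin D.rank → Option (Fˣ →* kˣ)

variable {k : Type*} [Field k] {D : ChevalleyDatum} {F : Type*} [Field F] [Fintype F] {C : Core D}
  {W : Type*} [AddCommGroup W] [Module k W] {W' : Type*} [AddCommGroup W'] [Module k W']

/-- The character of the torus of a parameter. -/
def chi (P : Param k D F) (c : Fin D.rank → Fˣ) : kˣ := ∏ i, (P i).getD 1 (c i)

/-- The eigenvalue of `A_i` of a parameter. -/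
def mu (P : Param k D F) (i : Fin D.rank) : k := if (P i).isNone then -1 else 0

namespace GRep

/-- A highest weight vector. -/
structure HW (ρ : GRep k D F W) (C : Core D) (P : Param k D F) (m : W) : Prop where
  ne_zero : m ≠ 0
  fixed : ∀ u ∈ C.US F C.Pos, ρ.toFun u m = m
  torus : ∀ c, ρ.toFun (C.HT F c) m = (chi P c : k) • m
  eigen : ∀ i, ρ.A C i m = mu P i • m

theorem HW.sing {ρ : GRep k D F W} {P : Param k D F} {m : W} (h : ρ.HW C P m) : ρ.Sing C m :=
  ⟨h.fixed, fun c => ⟨_, h.torus c⟩⟩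

/-- The product of two representations. -/
def prod (ρ : GRep k D F W) (ρ' : GRep k D F W') : GRep k D F (W × W') where
  toFun g := (ρ.toFun g).prodMap (ρ'.toFun g)
  map_one' := by simp [ρ.map_one', ρ'.map_one', Module.End.one_eq_id]
  map_mul' g hg h hh := by
    simp [ρ.map_mul' g hg h hh, ρ'.map_mul' g hg h hh, Module.End.mul_eq_comp, LinearMap.prodMap_comp]

/-- The contragredient. -/
noncomputable def dual (ρ : GRep k D F W) : GRep k D F (Module.Dual k W) where
  toFun g := (ρ.toFun g⁻¹).dualMap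
  map_one' := by simp [ρ.map_one', Module.End.one_eq_id]
  map_mul' g hg h hh := by
    rw [mul_inv_rev, ρ.map_mul' _ (inv_mem hh) _ (inv_mem hg), Module.End.mul_eq_comp,
      ← LinearMap.dualMap_comp_dualMap]
    rfl

theorem prod_A (ρ : GRep k D F W) (ρ' : GRep k D F W') (i : Fin D.rank) (x : W) (y : W') :
    (ρ.prod ρ').A C i (x, y) = (ρ.A C i x, ρ'.A C i y) := by
  simp only [GRep.A, GRep.prod, LinearMap.prodMap_apply, Prod.ext_iff, Prod.fst_sum, Prod.snd_sum, and_self]

theorem HW.prod {ρ : GRep k D F W} {ρ' : GRep k D F W'} {P : Param k D F} {m : W} {m' : W'}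
    (h : ρ.HW C P m) (h' : ρ'.HW C P m') : (ρ.prod ρ').HW C P (m, m') where
  ne_zero e := h.ne_zero (congrArg Prod.fst e)
  fixed u hu := Prod.ext (h.fixed u hu) (h'.fixed u hu)
  torus c := Prod.ext (h.torus c) (h'.torus c)
  eigen i := by rw [prod_A, h.eigen, h'.eigen]; rfl

/-- The functionals fixed by a set of matrices. -/
def Inv (ρ : GRep k D F W) (S : Subgroup (GL D.Idx F)) (φ : Module.Dual k W) : Prop :=
  ∀ u ∈ S, ∀ x, φ (ρ.toFun u x) = φ x

variable (H : CommOK C)
include H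

/-- The span of the opposite unipotent orbit of a U-fixed eigenvector is stable. -/
theorem stable_span (ρ : GRep k D F W) {z : W} (hz : ρ.Sing C z) (he : ∀ i, ∃ μ : k, ρ.A C i z = μ • z) :
    ρ.Stable (Submodule.span k ((fun u => ρ.toFun u z) '' (C.US F C.Neg : Set (GL D.Idx F)))) := by
  set E := Submodule.span k ((fun u => ρ.toFun u z) '' (C.US F C.Neg : Set (GL D.Idx F))) with hE
  have hV : ∀ v ∈ C.US F C.Neg, ∀ x ∈ E, ρ.toFun v x ∈ E := by
    intro v hv x hx
    induction hx using Submodule.span_induction with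
    | mem x hx =>
      obtain ⟨u, hu, rfl⟩ := hx
      rw [← ρ.mul_apply (C.US_le_group _ hv) (C.US_le_group _ hu)]
      exact Submodule.subset_span ⟨_, mul_mem hv hu, rfl⟩
    | zero => simp
    | add x y _ _ hx hy => rw [map_add]; exact add_mem hx hy
    | smul a x _ hx => rw [map_smul]; exact Submodule.smul_mem _ a hx
  have hz0 : z ∈ E := Submodule.subset_span ⟨1, one_mem _, ρ.one_apply z⟩
  have hT : ∀ c, ∀ x ∈ E, ρ.toFun (C.HT F c) x ∈ E := by
    intro c x hx
    induction hx using Submodule.span_induction with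
    | mem x hx =>
      obtain ⟨u, hu, rfl⟩ := hx
      obtain ⟨a, ha⟩ := hz.torus c
      have hcu : C.HT F c * u * (C.HT F c)⁻¹ ∈ C.US F C.Neg :=
        (Subgroup.mem_normalizer_iff.1 (C.diag_le_normalizer C.Neg (C.HT_mem_diagonal c)) u).1 hu
      rw [← ρ.mul_apply (C.HT_mem_group c) (C.US_le_group _ hu),
        show C.HT F c * u = C.HT F c * u * (C.HT F c)⁻¹ * C.HT F c by group,
        ρ.mul_apply (C.US_le_group _ hcu) (C.HT_mem_group c), ha, map_smul]
      exact Submodule.smul_mem _ _ (Submodule.subset_span ⟨_, hcu, rfl⟩)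
    | zero => simp
    | add x y _ _ hx hy => rw [map_add]; exact add_mem hx hy
    | smul a x _ hx => rw [map_smul]; exact Submodule.smul_mem _ a hx
  have hXP : ∀ i (t : Fˣ), ρ.toFun (C.X F (C.p i) t * C.P F i) z ∈ E := by
    intro i t
    obtain ⟨e, h⟩ := XP_eq H i t
    rw [h, C.hD_eq_HT, ρ.mul_apply (mul_mem (C.X_mem_group _ _) (C.HT_mem_group _)) (C.X_mem_group _ _),
      hz.fixed _ (C.X_mem_US F (C.p_pos i) e), ρ.mul_apply (C.X_mem_group _ _) (C.HT_mem_group _)]
    exact hV _ (C.X_mem_US F (C.rev_neg (C.p_pos i)) _) _ (hT _ _ hz0)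
  have hPz : ∀ i, ρ.toFun (C.P F i) z ∈ E := by
    intro i
    classical
    obtain ⟨μ, hμ⟩ := he i
    have h1 : ρ.A C i z = ρ.toFun (C.X F (C.p i) 0 * C.P F i) z +
        ∑ t ∈ Finset.univ.erase (0 : F), ρ.toFun (C.X F (C.p i) t * C.P F i) z :=
      (Finset.add_sum_erase _ _ (Finset.mem_univ 0)).symm
    rw [C.X_zero, one_mul, hμ, ← sub_eq_iff_eq_add] at h1
    rw [← h1]
    exact sub_mem (Submodule.smul_mem _ _ hz0)
      (Submodule.sum_mem _ fun t ht => hXP i (Units.mk0 t (Finset.ne_of_mem_erase ht)))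
  have hX : ∀ i (a : F), ∀ x ∈ E, ρ.toFun (C.X F (C.p i) a) x ∈ E := by
    intro i a x hx
    induction hx using Submodule.span_induction with
    | mem x hx =>
      obtain ⟨u, hu, rfl⟩ := hx
      obtain ⟨b, u0, hu0, rfl⟩ := ChevBlocks49.Cell.exists_split_neg H i hu
      set g := C.X F (C.p i) a * C.X F (C.p i).rev b with hg
      have hgm : g ∈ D.group F := mul_mem (C.X_mem_group _ _) (C.X_mem_group _ _)
      have hg' : g * u0 * g⁻¹ ∈ C.US F C.Neg := C.US_mono F Set.sdiff_subset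
        (ChevBlocks49.Cell.conj_negBut H i (mul_mem
          (Subgroup.mem_sup_left (C.X_mem_US F (S := {C.p i}) rfl a))
          (Subgroup.mem_sup_right (C.X_mem_US F (S := {(C.p i).rev}) rfl b))) hu0)
      rw [← ρ.mul_apply (C.X_mem_group _ _) (C.US_le_group _ hu),
        show C.X F (C.p i) a * (C.X F (C.p i).rev b * u0) = g * u0 * g⁻¹ * g by rw [hg]; group,
        ρ.mul_apply (C.US_le_group _ hg') hgm]
      refine hV _ hg' _ ?_
      by_cases hd : 1 + a * b = 0
      · have ha0 : a ≠ 0 := fun h => by simp [h] at hd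
        rw [hg, (ChevBlocks49.Cell.rank_one H (C.p i) a b).2 hd (Units.mk0 a ha0) rfl,
          ρ.mul_apply (C.nR_mem_group _ _) (C.X_mem_group _ _),
          hz.fixed _ (C.X_mem_US F (C.p_pos i) _)]
        obtain ⟨c, hc⟩ := C.nR_p F i (Units.mk0 a ha0)
        rw [hc, ρ.mul_apply (C.HT_mem_group c) (C.P_mem_group i)]
        exact hT c _ (hPz i)
      · rw [hg, (ChevBlocks49.Cell.rank_one H (C.p i) a b).1 (Units.mk0 _ hd) rfl,
          C.hD_eq_HT, ρ.mul_apply (mul_mem (C.X_mem_group _ _) (C.HT_mem_group _)) (C.X_mem_group _ _),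
          hz.fixed _ (C.X_mem_US F (C.p_pos i) _), ρ.mul_apply (C.X_mem_group _ _) (C.HT_mem_group _)]
        exact hV _ (C.X_mem_US F (C.rev_neg (C.p_pos i)) _) _ (hT _ _ hz0)
    | zero => simp
    | add x y _ _ hx hy => rw [map_add]; exact add_mem hx hy
    | smul a x _ hx => rw [map_smul]; exact Submodule.smul_mem _ a hx
  haveI := Finite.of_injective (fun g : GL D.Idx F => (g : Matrix D.Idx D.Idx F)) Units.val_injective
  let M₀ : Submonoid (GL D.Idx F) :=
    { carrier := {g | g ∈ D.group F ∧ ∀ x ∈ E, ρ.toFun g x ∈ E}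
      one_mem' := ⟨one_mem _, fun x hx => by rwa [ρ.one_apply]⟩
      mul_mem' := fun ha hb => ⟨mul_mem ha.1 hb.1, fun x hx => by
        rw [ρ.mul_apply ha.1 hb.1]; exact ha.2 _ (hb.2 _ hx)⟩ }
  let M : Subgroup (GL D.Idx F) :=
    { M₀ with
      inv_mem' := fun {g} hg => by
        obtain ⟨n, -, hn⟩ := IsOfFinOrder.exists_pow_eq_one (isOfFinOrder_of_finite g)
        have : g⁻¹ = g ^ (orderOf g - 1) := by
          refine inv_eq_of_mul_eq_one_left ?_
          rw [← pow_succ, Nat.sub_add_cancel (orderOf_pos g), pow_orderOf_eq_one]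
        show g⁻¹ ∈ M₀
        rw [this]
        exact pow_mem hg _ }
  have hMN : C.US F C.Neg ≤ M := fun v hv => ⟨C.US_le_group _ hv, hV v hv⟩
  have hMX : ∀ i a, C.X F (C.p i) a ∈ M := fun i a => ⟨C.X_mem_group _ _, hX i a⟩
  have hMP : ∀ i, C.P F i ∈ M := fun i => by
    rw [Core.P, Core.nR]
    exact mul_mem (mul_mem (hMX i _) (hMN (C.X_mem_US F (C.rev_neg (C.p_pos i)) _))) (hMX i _)
  have hMU : C.US F C.Pos ≤ M := by
    obtain ⟨L, -, hL⟩ := C.exists_opposition (F := F)
    have hw : C.wprod F L ∈ M := list_prod_mem fun g hg => by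
      rw [List.mem_map] at hg
      obtain ⟨i, -, rfl⟩ := hg
      exact hMP i
    intro u hu
    have hu' : C.wprod F L * u * (C.wprod F L)⁻¹ ∈ C.US F C.Neg := hL.le ⟨u, hu, rfl⟩
    have := mul_mem (mul_mem (inv_mem hw) (hMN hu')) hw
    rwa [show (C.wprod F L)⁻¹ * (C.wprod F L * u * (C.wprod F L)⁻¹) * C.wprod F L = u by group] at this
  exact fun g hg x hx => (C.group_le hMU hMP hg).2 x hx

theorem span_top {ρ : GRep k D F W} (hρ : ρ.Irr) {P : Param k D F} {m : W} (hm : ρ.HW C P m) :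
    Submodule.span k ((fun u => ρ.toFun u m) '' (C.US F C.Neg : Set (GL D.Idx F))) = ⊤ := by
  refine (hρ.simple _ (stable_span H ρ hm.sing fun i => ⟨_, hm.eigen i⟩)).resolve_left fun h => hm.ne_zero ?_
  have : m ∈ Submodule.span k ((fun u => ρ.toFun u m) '' (C.US F C.Neg : Set (GL D.Idx F))) :=
    Submodule.subset_span ⟨1, one_mem _, ρ.one_apply m⟩
  rwa [h, Submodule.mem_bot] at this

/-- An invariant functional is determined by its value at the highest weight vector. -/
theorem inv_eq_zero {ρ : GRep k D F W} {m : W}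
    (hs : Submodule.span k ((fun u => ρ.toFun u m) '' (C.US F C.Neg : Set (GL D.Idx F))) = ⊤)
    {φ : Module.Dual k W} (hφ : ρ.Inv (C.US F C.Neg) φ) (h0 : φ m = 0) : φ = 0 := by
  refine LinearMap.ext_on hs ?_
  rintro _ ⟨u, hu, rfl⟩
  simp [hφ u hu, h0]

variable [CharP k (ringChar F)]

theorem exists_fixed [Nontrivial W] (ρ : GRep k D F W) :
    ∃ w : W, w ≠ 0 ∧ ∀ u ∈ C.US F C.Pos, ρ.toFun u w = w := by
  classical
  set p := ringChar F with hp
  haveI := ringChar.charP F
  haveI : Fact p.Prime := ⟨CharP.char_is_prime F p⟩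
  haveI := Finite.of_injective (fun g : GL D.Idx F => (g : Matrix D.Idx D.Idx F)) Units.val_injective
  obtain ⟨v, hv⟩ := exists_ne (0 : W)
  set S : AddSubgroup W := AddSubgroup.closure (Set.range fun u : C.US F C.Pos => ρ.toFun u v) with hS
  letI : AddCommGroup S := inferInstance
  have hpS : ∀ x : S, p • x = 0 := fun x => by
    refine Subtype.ext ?_
    rw [AddSubgroupClass.coe_nsmul, ← Nat.cast_smul_eq_nsmul k, CharP.cast_eq_zero, zero_smul]
    rfl
  letI : Module (ZMod p) S := AddCommGroup.zmodModule hpS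
  haveI hfg : Finite S := by
    haveI : Module.Finite (ZMod p) S := by
      refine ⟨⟨Finset.univ.image (fun u : C.US F C.Pos => (⟨ρ.toFun u v, AddSubgroup.subset_closure ⟨u, rfl⟩⟩ : S)), ?_⟩⟩
      rw [eq_top_iff]
      rintro ⟨x, hx⟩ -
      induction hx using AddSubgroup.closure_induction with
      | mem x hx => obtain ⟨u, rfl⟩ := hx; exact Submodule.subset_span (by simp)
      | zero => exact Submodule.zero_mem _
      | add x y hx hy h1 h2 => exact Submodule.add_mem _ h1 h2
      | neg x hx h1 => exact Submodule.neg_mem _ h1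
    exact Module.finite_of_finite (ZMod p)
  have hst : ∀ u ∈ C.US F C.Pos, ∀ x ∈ S, ρ.toFun u x ∈ S := by
    intro u hu x hx
    induction hx using AddSubgroup.closure_induction with
    | mem x hx =>
      obtain ⟨w, rfl⟩ := hx
      rw [← ρ.mul_apply (C.US_le_group _ hu) (C.US_le_group _ w.2)]
      exact AddSubgroup.subset_closure ⟨⟨_, mul_mem hu w.2⟩, rfl⟩
    | zero => simp
    | add x y _ _ h1 h2 => rw [map_add]; exact add_mem h1 h2
    | neg x _ h1 => rw [map_neg]; exact neg_mem h1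
  letI : MulAction (C.US F C.Pos) S :=
    { smul := fun u x => ⟨ρ.toFun u x, hst u u.2 x x.2⟩
      one_smul := fun x => Subtype.ext (ρ.one_apply _)
      mul_smul := fun u w x => Subtype.ext (ρ.mul_apply (C.US_le_group _ u.2) (C.US_le_group _ w.2) _) }
  have hP : IsPGroup p (C.US F C.Pos) := by
    obtain ⟨n, -, hn⟩ := FiniteField.card F p
    exact IsPGroup.of_card (n := n * (D.nroots / 2)) (by rw [H.card_posUS F, Nat.card_eq_fintype_card, hn, pow_mul])
  have hv' : (⟨v, AddSubgroup.subset_closure ⟨1, ρ.one_apply v⟩⟩ : S) ≠ 0 := fun e => hv (congrArg Subtype.val e)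
  have hdvd : p ∣ Nat.card S := by
    have : addOrderOf (⟨v, AddSubgroup.subset_closure ⟨1, ρ.one_apply v⟩⟩ : S) = p :=
      addOrderOf_eq_prime (hpS _) hv'
    exact this ▸ addOrderOf_dvd_natCard _
  have h0 : (0 : S) ∈ MulAction.fixedPoints (C.US F C.Pos) S := fun u => Subtype.ext (map_zero (ρ.toFun u))
  obtain ⟨b, hb, hb0⟩ := hP.exists_fixed_point_of_prime_dvd_card_of_fixed_point S hdvd h0
  exact ⟨b.1, fun e => hb0 (Subtype.ext e.symm), fun u hu => congrArg Subtype.val (hb ⟨u, hu⟩)⟩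

theorem exists_inv [Nontrivial W] (ρ : GRep k D F W) :
    ∃ φ : Module.Dual k W, φ ≠ 0 ∧ ρ.Inv (C.US F C.Neg) φ := by
  obtain ⟨ψ, hψ0, hψ⟩ := exists_fixed H ρ.dual
  obtain ⟨L, -, hL⟩ := C.exists_opposition (F := F)
  have hw : C.wprod F L ∈ D.group F := C.monomial_le_group (C.wprod_mem_monomial L)
  refine ⟨ψ ∘ₗ ρ.toFun (C.wprod F L)⁻¹, fun e => hψ0 (LinearMap.ext fun x => ?_), fun v hv x => ?_⟩
  · have := LinearMap.congr_fun e (ρ.toFun (C.wprod F L) x)
    rwa [LinearMap.comp_apply, ρ.inv_apply hw] at this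
  · obtain ⟨u, hu, rfl⟩ := hL.ge hv
    simp only [MulEquiv.coe_toMonoidHom, MulAut.conj_apply, LinearMap.comp_apply]
    have hum := C.US_le_group _ hu
    rw [← ρ.mul_apply (inv_mem hw) (mul_mem (mul_mem hw hum) (inv_mem hw)),
      show (C.wprod F L)⁻¹ * (C.wprod F L * u * (C.wprod F L)⁻¹) = u * (C.wprod F L)⁻¹ by group,
      ρ.mul_apply hum (inv_mem hw)]
    have := LinearMap.congr_fun (hψ u⁻¹ (inv_mem hu)) (ρ.toFun (C.wprod F L)⁻¹ x)
    simpa [GRep.dual] using this

/-- Irreducible representations with the same parameter are isomorphic. -/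
theorem exists_equiv {ρ : GRep k D F W} {ρ' : GRep k D F W'} (hρ : ρ.Irr) (hρ' : ρ'.Irr)
    {P : Param k D F} {m : W} {m' : W'} (hm : ρ.HW C P m) (hm' : ρ'.HW C P m') :
    ∃ e : W ≃ₗ[k] W', ∀ g ∈ D.group F, ∀ x, e (ρ.toFun g x) = ρ'.toFun g (e x) := by
  have hz := hm.prod hm'
  set σ := ρ.prod ρ' with hσ
  set z := (m, m')
  set E := Submodule.span k ((fun u => σ.toFun u z) '' (C.US F C.Neg : Set (GL D.Idx F))) with hE
  have hst : σ.Stable E := stable_span H σ hz.sing fun i => ⟨_, hz.eigen i⟩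
  have hzE : z ∈ E := Submodule.subset_span ⟨1, one_mem _, σ.one_apply z⟩
  haveI := hρ.nontriv
  haveI := hρ'.nontriv
  obtain ⟨φ, hφ0, hφ⟩ := exists_inv H ρ
  obtain ⟨φ', hφ0', hφ'⟩ := exists_inv H ρ'
  have hφm' : φ' m' ≠ 0 := fun e => hφ0' (inv_eq_zero H (span_top H hρ' hm') hφ' e)
  have hne : E ≠ ⊤ := by
    intro htop
    have h := inv_eq_zero H htop (φ := φ' m' • φ.comp (LinearMap.fst k W W') - φ m • φ'.comp (LinearMap.snd k W W'))
      (fun u hu x => by simp [hσ, GRep.prod, hφ u hu, hφ' u hu]) (by simp [z, mul_comm])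
    obtain ⟨x, hx⟩ : ∃ x, φ x ≠ 0 := by
      by_contra hc
      push Not at hc
      exact hφ0 (LinearMap.ext hc)
    have := LinearMap.congr_fun h (x, 0)
    simp [hφm', hx] at this
  have himg1 : E.map (LinearMap.fst k W W') = ⊤ := by
    refine (hρ.simple _ ?_).resolve_left fun h => hm.ne_zero ?_
    · rintro g hg _ ⟨y, hy, rfl⟩
      exact ⟨_, hst g hg y hy, rfl⟩
    · have : m ∈ E.map (LinearMap.fst k W W') := ⟨z, hzE, rfl⟩
      rwa [h, Submodule.mem_bot] at this
  have himg2 : E.map (LinearMap.snd k W W') = ⊤ := by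
    refine (hρ'.simple _ ?_).resolve_left fun h => hm'.ne_zero ?_
    · rintro g hg _ ⟨y, hy, rfl⟩
      exact ⟨_, hst g hg y hy, rfl⟩
    · have : m' ∈ E.map (LinearMap.snd k W W') := ⟨z, hzE, rfl⟩
      rwa [h, Submodule.mem_bot] at this
  have hker1 : E.comap (LinearMap.inl k W W') = ⊥ := by
    refine (hρ.simple _ ?_).resolve_right fun h => hne ?_
    · intro g hg x hx
      have := hst g hg _ hx
      simpa [hσ, GRep.prod] using this
    · refine eq_top_iff.2 fun ⟨a, b⟩ _ => ?_
      have h1 : ∀ a : W, (a, (0 : W')) ∈ E := fun a => (h.ge trivial : a ∈ E.comap (LinearMap.inl k W W'))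
      obtain ⟨⟨a', b'⟩, hy, rfl⟩ := himg2.ge (trivial : b ∈ ⊤)
      have := add_mem hy (h1 (a - a'))
      simpa using this
  have hker2 : E.comap (LinearMap.inr k W W') = ⊥ := by
    refine (hρ'.simple _ ?_).resolve_right fun h => hne ?_
    · intro g hg x hx
      have := hst g hg _ hx
      simpa [hσ, GRep.prod] using this
    · refine eq_top_iff.2 fun ⟨a, b⟩ _ => ?_
      have h1 : ∀ b : W', ((0 : W), b) ∈ E := fun b => (h.ge trivial : b ∈ E.comap (LinearMap.inr k W W'))
      obtain ⟨⟨a', b'⟩, hy, rfl⟩ := himg1.ge (trivial : a ∈ ⊤)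
      have := add_mem hy (h1 (b - b'))
      simpa using this
  let f1 : E →ₗ[k] W := (LinearMap.fst k W W').comp E.subtype
  let f2 : E →ₗ[k] W' := (LinearMap.snd k W W').comp E.subtype
  have hb1 : Function.Bijective f1 := by
    refine ⟨(injective_iff_map_eq_zero f1).2 ?_, fun a => ?_⟩
    · rintro ⟨⟨a, b⟩, hy⟩ e
      change a = 0 at e
      subst e
      have : b ∈ E.comap (LinearMap.inr k W W') := hy
      rw [hker2, Submodule.mem_bot] at this
      subst this; rfl
    · obtain ⟨y, hy, e⟩ := himg1.ge (trivial : a ∈ ⊤)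
      exact ⟨⟨y, hy⟩, e⟩
  have hb2 : Function.Bijective f2 := by
    refine ⟨(injective_iff_map_eq_zero f2).2 ?_, fun b => ?_⟩
    · rintro ⟨⟨a, b⟩, hy⟩ e
      change b = 0 at e
      subst e
      have : a ∈ E.comap (LinearMap.inl k W W') := hy
      rw [hker1, Submodule.mem_bot] at this
      subst this; rfl
    · obtain ⟨y, hy, e⟩ := himg2.ge (trivial : b ∈ ⊤)
      exact ⟨⟨y, hy⟩, e⟩
  refine ⟨(LinearEquiv.ofBijective f1 hb1).symm.trans (LinearEquiv.ofBijective f2 hb2), fun g hg x => ?_⟩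
  obtain ⟨y, rfl⟩ := hb1.2 x
  simp only [LinearEquiv.trans_apply]
  rw [show ρ.toFun g (f1 y) = LinearEquiv.ofBijective f1 hb1 ⟨σ.toFun g y.1, hst g hg _ y.2⟩ from rfl,
    show f1 y = LinearEquiv.ofBijective f1 hb1 y from rfl, LinearEquiv.symm_apply_apply,
    LinearEquiv.symm_apply_apply]
  rfl

end GRep

end Cfsg.Agent.Lib.CurtisRichen
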