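import Cfsg.Agent.Lib.ChevStructure.NormalForm

/-!
The group generated by some of the n_p: its torus part lies in the corresponding coroot subtori.
-/

set_option autoImplicit false
set_option linter.unusedSectionVars false
set_option maxHeartbeats 80000

namespace Cfsg.Agent.Lib.CurtisRichen

open Cfsg.Lie Cfsg.Agent.Lib.ChevStructure
open scoped MatrixGroups Matrix

variable {D : ChevalleyDatum} (C : Core D) (F : Type*) [Field F]

/-- The torus parameters supported in `K`. -/
def TK (K : Set (Fin D.rank)) : Subgroup (Fin D.rank → Fˣ) where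
  carrier := {c | ∀ i, i ∉ K → c i = 1}
  one_mem' := fun _ _ => rfl
  mul_mem' := fun ha hb i hi => by simp [ha i hi, hb i hi]
  inv_mem' := fun ha i hi => by simp [ha i hi]

/-- The group generated by the `n_i`, `i ∈ K`. -/
def NK (K : Set (Fin D.rank)) : Subgroup (GL D.Idx F) := Subgroup.closure (C.P F '' K)

variable {C F}

theorem single_mem_TK {K : Set (Fin D.rank)} {i : Fin D.rank} (hi : i ∈ K) (a : Fˣ) :
    Pi.mulSingle i a ∈ TK F K := fun j hj => by
  rw [Pi.mulSingle_eq_of_ne]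
  exact fun h => hj (h ▸ hi)

theorem nR_p_single (i : Fin D.rank) (u : Fˣ) :
    C.nR F (C.p i) u = C.HT F (Pi.mulSingle i u) * C.P F i := by
  rw [C.HT_single, ← C.hR_eq, Core.P, mul_assoc, ← C.nR_inv, inv_mul_cancel, mul_one]

theorem P_HT_single (i : Fin D.rank) (c : Fin D.rank → Fˣ) :
    C.P F i * C.HT F c = C.HT F (c * Pi.mulSingle i (C.chA c (C.p i))⁻¹) * C.P F i := by
  rw [Core.HT, C.P_diag, Core.HT]
  congr 1
  refine congrArg (Core.diag F) (funext fun s => ?_)
  simp only [Pi.mul_apply, mul_zpow, Finset.prod_mul_distrib]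
  rw [Finset.prod_eq_single (f := fun j => (Pi.mulSingle i (C.chA c (C.p i))⁻¹ : Fin D.rank → Fˣ) j ^ A D j s) i
    (fun j _ hj => by simp [hj]) (by simp), Pi.mulSingle_eq_same, Core.chA, inv_zpow, ← Finset.prod_zpow,
    ← Finset.prod_inv_distrib, ← Finset.prod_mul_distrib]
  refine Finset.prod_congr rfl fun j _ => ?_
  rw [C.A_w, zpow_sub, ← zpow_mul, mul_comm (A D i s)]

theorem P_inv_single (i : Fin D.rank) : (C.P F i)⁻¹ = C.HT F (Pi.mulSingle i (-1)) * C.P F i := by
  rw [← nR_p_single, Core.P, C.nR_inv]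

variable {K : Set (Fin D.rank)}

theorem exchange_K : ∀ (L : List (Fin D.rank)), (∀ j ∈ L, j ∈ K) → ∀ (i : Fin D.rank),
    C.pprod L (C.p i) ∈ C.Neg →
    ∃ L', (∀ j ∈ L', j ∈ K) ∧ ∃ c ∈ TK F K, L'.length + 1 = L.length ∧
      C.wprod F L * C.P F i = C.HT F c * C.wprod F L' ∧ C.pprod L * C.sref i = C.pprod L'
  | [], _, i, h => absurd h (fun h => by
      have h1 := C.ht_neg h; have h2 := C.ht_pos (C.p_pos i)
      simp [Core.pprod] at h1; omega)
  | j :: L, hL, i, h => by
    have hj0 : j ∈ K := hL j List.mem_cons_self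
    have hL' : ∀ m ∈ L, m ∈ K := fun m hm => hL m (List.mem_cons_of_mem _ hm)
    by_cases hr : C.pprod L (C.p i) ∈ C.Pos
    · rw [C.pprod_cons, Equiv.Perm.mul_apply, C.sref_apply] at h
      have hj : C.pprod L (C.p i) = C.p j := C.eq_p_of_w_neg hr h
      obtain ⟨u, hu⟩ := C.wprod_nR F L (C.p i) 1
      rw [hj, nR_p_single j u] at hu
      change C.wprod F L * C.P F i * (C.wprod F L)⁻¹ = _ at hu
      refine ⟨L, hL', Pi.mulSingle j u * Pi.mulSingle j (C.chA (Pi.mulSingle j u) (C.p j))⁻¹ *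
        Pi.mulSingle j (-1), mul_mem (mul_mem (single_mem_TK hj0 _) (single_mem_TK hj0 _)) (single_mem_TK hj0 _),
        rfl, ?_, ?_⟩
      · have e : C.wprod F L * C.P F i = C.HT F (Pi.mulSingle j u) * C.P F j * C.wprod F L :=
          (eq_mul_inv_iff_mul_eq.1 hu.symm).symm
        have hsq : C.P F j * C.P F j = C.HT F (Pi.mulSingle j (-1)) := by
          rw [C.HT_single, Core.P, C.nR_mul]
          simp
        rw [C.wprod_cons, mul_assoc, e, ← mul_assoc, ← mul_assoc, P_HT_single, mul_assoc (C.HT F _) (C.P F j),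
          hsq, C.HT_mul]
      · rw [C.pprod_cons, mul_assoc]
        have e : C.pprod L * C.sref i = C.sref j * C.pprod L := by
          refine Equiv.ext fun s => ?_
          simp only [Equiv.Perm.mul_apply, C.sref_apply]
          refine C.v_inj (funext fun m => ?_)
          have hA : A D j (C.pprod L s) = A D i s := by
            rw [← C.pr_p, ← hj, C.pprod_pr, C.pr_p]
          rw [C.pprod_v, C.v_w, C.v_w, hA]
          simp only [Pi.sub_apply, Pi.smul_apply, smul_eq_mul, sub_mul, Finset.sum_sub_distrib,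
            ← C.pprod_v L s m]
          congr 1
          rw [Finset.sum_eq_single i (fun k _ hk => by simp [hk]) (by simp), Pi.single_eq_same, mul_one, hj,
            C.v_p]
        rw [e, ← mul_assoc, C.sref_mul_self, one_mul]
    · obtain ⟨L', hK', c, hc, hl, hw, hp⟩ := exchange_K L hL' i ((C.neg_iff_not_pos _).2 hr)
      refine ⟨j :: L', List.forall_mem_cons.2 ⟨hj0, hK'⟩, c * Pi.mulSingle j (C.chA c (C.p j))⁻¹,
        mul_mem hc (single_mem_TK hj0 _), by simp [hl], ?_, ?_⟩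
      · rw [C.wprod_cons, mul_assoc, hw, ← mul_assoc, P_HT_single, mul_assoc, ← C.wprod_cons]
      · rw [C.pprod_cons, mul_assoc, hp, ← C.pprod_cons]

theorem reduce_K (L : List (Fin D.rank)) (hL : ∀ j ∈ L, j ∈ K) :
    ∃ L', (∀ j ∈ L', j ∈ K) ∧ ∃ c ∈ TK F K, L'.length = C.len (C.pprod L) ∧ C.pprod L' = C.pprod L ∧
      C.wprod F L = C.HT F c * C.wprod F L' := by
  induction L using List.reverseRecOn with
  | nil => exact ⟨[], hL, 1, one_mem _, by rw [C.pprod_nil, C.len_one]; rfl, rfl, by rw [C.HT_one, one_mul]⟩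
  | append_singleton L i ih =>
    have hi : i ∈ K := hL i (by simp)
    obtain ⟨L₁, hK₁, c, hc, hl, hp, hw⟩ := ih fun j hj => hL j (by simp [hj])
    by_cases h : C.pprod L (C.p i) ∈ C.Pos
    · refine ⟨L₁ ++ [i], fun j hj => (List.mem_append.1 hj).elim (hK₁ j) (fun h => by simp_all), c, hc, ?_, ?_, ?_⟩
      · rw [C.pprod_concat, C.len_mul_sref_pos (C.pprod_rev L) h, List.length_append, hl]; rfl
      · rw [C.pprod_concat, C.pprod_concat, hp]
      · rw [C.wprod_append, C.wprod_append, hw, mul_assoc]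
    · rw [← hp] at h
      obtain ⟨L₂, hK₂, c₂, hc₂, hl₂, hw₂, hp₂⟩ := exchange_K (F := F) L₁ hK₁ i ((C.neg_iff_not_pos _).2 h)
      refine ⟨L₂, hK₂, c * c₂, mul_mem hc hc₂, ?_, by rw [← hp₂, C.pprod_concat, hp], ?_⟩
      · have hpos : C.pprod L₂ (C.p i) ∈ C.Pos := by
          rw [← hp₂, Equiv.Perm.mul_apply, C.sref_apply, C.w_p, C.pprod_rev]
          exact C.rev_pos ((C.neg_iff_not_pos _).2 h)
        have e : C.pprod L₁ = C.pprod L₂ * C.sref i := by
          rw [← hp₂, mul_assoc, C.sref_mul_self, mul_one]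
        have h2 := C.len_mul_sref_pos (C.pprod_rev L₂) hpos
        rw [← e, hp, ← hl] at h2
        rw [C.pprod_concat, ← hp, hp₂]
        omega
      · rw [C.wprod_append, hw, ← C.HT_mul, mul_assoc, mul_assoc]
        congr 1
        rw [← hw₂]; simp [Core.wprod]

theorem mem_NK {x : GL D.Idx F} (hx : x ∈ NK C F K) :
    ∃ L, (∀ j ∈ L, j ∈ K) ∧ ∃ c ∈ TK F K, x = C.HT F c * C.wprod F L := by
  induction hx using Subgroup.closure_induction_left with
  | one => exact ⟨[], by simp, 1, one_mem _, by simp [Core.wprod, C.HT_one]⟩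
  | mul_left g hg y _ ih =>
    obtain ⟨i, hi, rfl⟩ := hg
    obtain ⟨L, hL, c, hc, rfl⟩ := ih
    refine ⟨i :: L, List.forall_mem_cons.2 ⟨hi, hL⟩, _, mul_mem hc (single_mem_TK hi (C.chA c (C.p i))⁻¹), ?_⟩
    rw [← mul_assoc, P_HT_single, mul_assoc, ← C.wprod_cons]
  | inv_mul_cancel g hg y _ ih =>
    obtain ⟨i, hi, rfl⟩ := hg
    obtain ⟨L, hL, c, hc, rfl⟩ := ih
    refine ⟨i :: L, List.forall_mem_cons.2 ⟨hi, hL⟩, _,
      mul_mem (single_mem_TK hi (-1)) (mul_mem hc (single_mem_TK hi (C.chA c (C.p i))⁻¹)), ?_⟩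
    rw [P_inv_single, ← mul_assoc, mul_assoc (C.HT F _) (C.P F i), P_HT_single, ← mul_assoc, C.HT_mul,
      mul_assoc, ← C.wprod_cons]

/-- The torus part of `NK`. -/
theorem exists_TK_eq {c : Fin D.rank → Fˣ} (h : C.HT F c ∈ NK C F K) :
    ∃ c' ∈ TK F K, C.HT F c = C.HT F c' := by
  obtain ⟨L, hL, d, hd, e⟩ := mem_NK h
  obtain ⟨L', -, d', hd', hl, -, hw⟩ := reduce_K (C := C) (F := F) L hL
  have hp : C.pprod L = 1 := by
    have h1 : C.Acts (C.HT F c) (C.pprod L) := e ▸ C.acts_HT_wprod F d L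
    exact C.acts_unique F h1 (C.acts_HT F c)
  rw [hp, C.len_one, List.length_eq_zero_iff] at hl
  subst hl
  refine ⟨d * d', mul_mem hd hd', ?_⟩
  rw [e, hw, ← C.HT_mul]
  simp [Core.wprod]

/-- Elements of `NK` do not move the coordinates outside `K`. -/
theorem coord_NK {x : GL D.Idx F} (hx : x ∈ NK C F K) {σ : Equiv.Perm (Rt D)} (hσ : C.Acts x σ)
    {m : Fin D.rank} (hm : m ∉ K) (r : Rt D) : C.v (σ r) m = C.v r m := by
  obtain ⟨L, hL, d, -, rfl⟩ := mem_NK hx
  rw [C.acts_unique F hσ (C.acts_HT_wprod F d L)]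
  clear hσ hx
  induction L generalizing r with
  | nil => rfl
  | cons i L ih =>
    rw [C.pprod_cons, Equiv.Perm.mul_apply, C.sref_apply, C.v_w, Pi.sub_apply, Pi.smul_apply,
      Pi.single_eq_of_ne (fun e : m = i => hm (e ▸ hL i List.mem_cons_self)), smul_zero, sub_zero]
    exact ih r (fun j hj => hL j (List.mem_cons_of_mem _ hj))

end Cfsg.Agent.Lib.CurtisRichen
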