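import Cfsg.Agent.Lib.CurtisRichen.Weight
import Cfsg.Agent.Lib.CurtisRichen.Monomial

/-!
Every parameter occurs: a function on G supported on the cells of a coset W_K w₀ spans a highest
weight line.
-/

set_option autoImplicit false
set_option linter.unusedSectionVars false
set_option maxHeartbeats 80000

namespace Cfsg.Agent.Lib.CurtisRichen

open Cfsg.Lie Cfsg.Agent.Lib.ChevStructure
open scoped MatrixGroups Matrix

variable (k : Type*) [Field k] (D : ChevalleyDatum) (F : Type*) [Field F]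

/-- Left translation on the functions on matrices. -/
noncomputable def regular : GRep k D F (GL D.Idx F → k) where
  toFun g := LinearMap.funLeft k k fun x => g⁻¹ * x
  map_one' := by ext f x; simp [LinearMap.funLeft]
  map_mul' g _ h _ := by ext f x; simp [LinearMap.funLeft, mul_assoc]

variable {k D F} {C : Core D}

/-- The simple roots with a trivial character and eigenvalue zero. -/
def kSet (P : Param k D F) : Set (Fin D.rank) := {i | P i = some 1}

theorem chi_TK [Fintype F] (P : Param k D F) {c : Fin D.rank → Fˣ} (hc : c ∈ TK F (kSet P)) : chi P c = 1 := by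
  refine Finset.prod_eq_one fun i _ => ?_
  by_cases hi : i ∈ kSet P
  · have : P i = some 1 := hi
    simp [this]
  · simp [hc i hi]

theorem chi_mul [Fintype F] (P : Param k D F) (c d : Fin D.rank → Fˣ) : chi P (c * d) = chi P c * chi P d := by
  simp [chi, Finset.prod_mul_distrib]

variable (H : CommOK C) [Fintype F] (hinj : ∀ c c' : Fin D.rank → Fˣ, C.HT F c = C.HT F c' → c = c')
include H hinj

theorem monomial_eq_of_cell {n n' u v u' v' : GL D.Idx F} (hn : n ∈ D.monomialSubgroup F)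
    (hn' : n' ∈ D.monomialSubgroup F) (hu : u ∈ C.US F C.Pos) (hv : v ∈ C.US F C.Pos) (hu' : u' ∈ C.US F C.Pos)
    (hv' : v' ∈ C.US F C.Pos) (e : u * n * v = u' * n' * v') : n = n' := by
  have e' : n' = u'⁻¹ * u * n * (v * v'⁻¹) := by
    calc n' = u'⁻¹ * (u' * n' * v') * v'⁻¹ := by group
      _ = _ := by rw [← e]; group
  have hd := H.bruhat_unique hn hn' (C.posUS_le_borel (mul_mem (inv_mem hu') hu))
    (C.posUS_le_borel (mul_mem hv (inv_mem hv'))) e'
  set d := n' * n⁻¹ with hd0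
  have hdd : d ∈ D.diagonalSubgroup F := by
    have := C.conj_diagonal hn hd
    rwa [show n * (n⁻¹ * n') * n⁻¹ = d by rw [hd0]; group] at this
  obtain ⟨σ, -, hσ⟩ := C.exists_acts hn
  obtain ⟨a, ha, b, hb, hab⟩ := H.exists_factor (A := {r | σ r ∈ C.Pos}) (S := {r | σ r ∈ C.Neg})
    (fun r _ => (em _).imp_right (C.neg_iff_not_pos _).2) (mul_mem hv (inv_mem hv'))
  have ha' : n * a * n⁻¹ ∈ C.US F C.Pos := C.conj_mem_US F hσ (fun r hr => hr.1) ha
  have hb' : n * b * n⁻¹ ∈ C.US F C.Neg := C.conj_mem_US F hσ (fun r hr => hr.1) hb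
  have hnb : n * b * n⁻¹ = (u'⁻¹ * u * (n * a * n⁻¹))⁻¹ * d := by
    rw [hd0, e', hab]; group
  have h1 : n * b * n⁻¹ = 1 := by
    rw [← Subgroup.mem_bot, ← C.borel_inf_negUS]
    refine Subgroup.mem_inf.2 ⟨?_, hb'⟩
    rw [hnb]
    exact mul_mem (C.posUS_le_borel (inv_mem (mul_mem (mul_mem (inv_mem hu') hu) ha'))) (C.diagonal_le_borel hdd)
  rw [h1] at hnb
  have h2 : d = 1 := by
    rw [← Subgroup.mem_bot, ← C.US_inf_diagonal]
    refine Subgroup.mem_inf.2 ⟨?_, hdd⟩
    rw [show d = u'⁻¹ * u * (n * a * n⁻¹) from (inv_mul_eq_one.1 hnb.symm).symm]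
    exact mul_mem (mul_mem (inv_mem hu') hu) ha'
  rw [hd0, mul_inv_eq_one] at h2
  exact h2.symm

/-- The highest weight function of a parameter. -/
theorem exists_hw_function [CharP k (ringChar F)] (P : Param k D F) :
    ∃ f : GL D.Idx F → k, (regular k D F).HW C P f := by
  classical
  haveI := ringChar.charP F
  obtain ⟨L, hL0, -⟩ := C.exists_opposition (F := F)
  set K := kSet P
  set n0 := C.wprod F L with hn0
  set σ0 := C.pprod L with hσ0
  have hn0m : n0 ∈ D.monomialSubgroup F := C.wprod_mem_monomial L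
  have hNK : NK C F K ≤ D.monomialSubgroup F := (Subgroup.closure_le _).2 fun _ ⟨i, _, e⟩ => e ▸ C.P_mem_monomial i
  let Supp : GL D.Idx F → (Fin D.rank → Fˣ) → Prop := fun x c =>
    ∃ u ∈ C.US F C.Pos, ∃ n ∈ NK C F K, ∃ v ∈ C.US F C.Pos, x = u * (C.HT F c * n * n0) * v
  have hmon : ∀ c, ∀ n ∈ NK C F K, C.HT F c * n * n0 ∈ D.monomialSubgroup F := fun c n hn =>
    mul_mem (mul_mem (C.HT_mem_monomial c) (hNK hn)) hn0m
  have huniq : ∀ x c c', Supp x c → Supp x c' → chi P c = chi P c' := by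
    rintro x c c' ⟨u, hu, n, hn, v, hv, rfl⟩ ⟨u', hu', n', hn', v', hv', e⟩
    have h := monomial_eq_of_cell H hinj (hmon c n hn) (hmon c' n' hn') hu hv hu' hv' e
    have h2 : C.HT F (c'⁻¹ * c) = n' * n⁻¹ := by
      rw [← C.HT_mul, ← C.HT_inv]
      have h3 := mul_right_cancel h
      calc (C.HT F c')⁻¹ * C.HT F c = (C.HT F c')⁻¹ * (C.HT F c * n) * n⁻¹ := by group
        _ = _ := by rw [h3]; group
    obtain ⟨d, hd, hd'⟩ := exists_TK_eq (C := C) (h2 ▸ mul_mem hn' (inv_mem hn) : C.HT F (c'⁻¹ * c) ∈ NK C F K)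
    have := hinj _ _ hd'
    rw [show c = c' * d by rw [← this, mul_inv_cancel_left], chi_mul, chi_TK P hd, mul_one]
  let f : GL D.Idx F → k := fun x => if h : ∃ c, Supp x c then (((chi P h.choose)⁻¹ : kˣ) : k) else 0
  have hval : ∀ x c, Supp x c → f x = (((chi P c)⁻¹ : kˣ) : k) := fun x c h => by
    have h' : ∃ c, Supp x c := ⟨c, h⟩
    simp only [f, dif_pos h', huniq x _ _ h'.choose_spec h]
  have hzero : ∀ x, (∀ c, ¬ Supp x c) → f x = 0 := fun x h => dif_neg fun ⟨c, hc⟩ => h c hc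
  have hleft : ∀ u ∈ C.US F C.Pos, ∀ x, f (u * x) = f x := by
    intro u hu x
    by_cases h : ∃ c, Supp x c
    · obtain ⟨c, u', hu', n, hn, v, hv, rfl⟩ := h
      rw [hval _ c ⟨u * u', mul_mem hu hu', n, hn, v, hv, by group⟩, hval _ c ⟨u', hu', n, hn, v, hv, rfl⟩]
    · push Not at h
      refine (hzero _ ?_).trans (hzero x h).symm
      rintro c ⟨u', hu', n, hn, v, hv, e⟩
      exact h c ⟨u⁻¹ * u', mul_mem (inv_mem hu) hu', n, hn, v, hv, by rw [mul_assoc u⁻¹, mul_assoc u⁻¹, ← e]; group⟩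
  have hright : ∀ x, ∀ w ∈ C.US F C.Pos, f (x * w) = f x := by
    intro x w hw
    by_cases h : ∃ c, Supp x c
    · obtain ⟨c, u', hu', n, hn, v, hv, rfl⟩ := h
      rw [hval _ c ⟨u', hu', n, hn, v * w, mul_mem hv hw, by group⟩, hval _ c ⟨u', hu', n, hn, v, hv, rfl⟩]
    · push Not at h
      refine (hzero _ ?_).trans (hzero x h).symm
      rintro c ⟨u', hu', n, hn, v, hv, e⟩
      exact h c ⟨u', hu', n, hn, v * w⁻¹, mul_mem hv (inv_mem hw), by rw [← mul_assoc, ← e]; group⟩
  have hdshift : ∀ d x c, Supp x c → Supp (C.HT F d * x) (d * c) := by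
    rintro d x c ⟨u, hu, n, hn, v, hv, rfl⟩
    refine ⟨C.HT F d * u * (C.HT F d)⁻¹, (Subgroup.mem_normalizer_iff.1
      (C.diag_le_normalizer C.Pos (C.HT_mem_diagonal d)) u).1 hu, n, hn, v, hv, ?_⟩
    rw [← C.HT_mul]; group
  have htor : ∀ d x, f (C.HT F d * x) = (((chi P d)⁻¹ : kˣ) : k) * f x := by
    intro d x
    by_cases h : ∃ c, Supp x c
    · obtain ⟨c, hc⟩ := h
      rw [hval _ _ (hdshift d x c hc), hval x c hc, chi_mul, mul_inv, Units.val_mul]
    · push Not at h
      rw [hzero x h, mul_zero]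
      refine hzero _ fun c hc => h (d⁻¹ * c) ?_
      have := hdshift d⁻¹ _ c hc
      rwa [← mul_assoc, C.HT_mul, inv_mul_cancel, C.HT_one, one_mul] at this
  refine ⟨f, ?_, ?_, ?_, ?_⟩
  · intro e
    have := hval n0 1 ⟨1, one_mem _, 1, one_mem _, 1, one_mem _, by simp [C.HT_one]⟩
    rw [congrFun e n0] at this
    exact Units.ne_zero _ this.symm
  · intro u hu
    funext x
    exact hleft u⁻¹ (inv_mem hu) x
  · intro c
    funext x
    show f ((C.HT F c)⁻¹ * x) = (chi P c : k) * f x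
    rw [C.HT_inv, htor]
    congr 2
    rw [inv_eq_iff_mul_eq_one, ← chi_mul, inv_mul_cancel]
    simp [chi]
  intro i
  have hP : C.Acts (C.P F i) (C.sref i) := by simpa [Core.wprod, Core.pprod] using C.acts_wprod F [i]
  funext x
  have hA : ∀ y, (regular k D F).A C i f y = ∑ t : F, f ((C.P F i)⁻¹ * C.X F (C.p i) (-t) * y) := by
    intro y
    simp [GRep.A, regular, LinearMap.funLeft, Finset.sum_apply, C.X_inv]
  have hAf : ∀ u ∈ C.US F C.Pos, ∀ y, (regular k D F).A C i f (u * y) = (regular k D F).A C i f y := by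
    intro u hu y
    have := congrFun (GRep.A_fixed H i (ρ := regular k D F) (y := f) (fun w hw => funext fun z => hleft w⁻¹ (inv_mem hw) z)
      u⁻¹ (inv_mem hu)) y
    simpa [regular, LinearMap.funLeft] using this
  show _ = mu P i * f x
  by_cases hx : x ∈ D.group F
  swap
  · have hout : ∀ y, y ∉ D.group F → f y = 0 := fun y hy => hzero y fun c ⟨u, hu, n, hn, v, hv, e⟩ => hy
      (e ▸ mul_mem (mul_mem (C.US_le_group _ hu) (C.monomial_le_group (hmon c n hn))) (C.US_le_group _ hv))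
    rw [hA, hout x hx, mul_zero]
    refine Finset.sum_eq_zero fun t _ => hout _ fun h => hx ?_
    have := mul_mem (inv_mem (mul_mem (inv_mem (C.P_mem_group i)) (C.X_mem_group (C.p i) (-t)))) h
    rwa [inv_mul_cancel_left] at this
  -- reduce to a monomial element
  obtain ⟨n, hn, hxn⟩ := H.exists_bruhat hx
  obtain ⟨b, hb, b', hb', rfl⟩ := DoubleCoset.mem_doubleCoset.1 hxn
  obtain ⟨u, hu, h, hh, rfl⟩ := C.mem_borel_iff.1 hb
  obtain ⟨v, hv, h', hh', rfl⟩ := C.mem_borel_iff.1 hb'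
  set N := h * n * h' with hN
  have hNm : N ∈ D.monomialSubgroup F := by
    obtain ⟨c, rfl⟩ := C.mem_diagonal_iff.1 hh
    obtain ⟨c', rfl⟩ := C.mem_diagonal_iff.1 hh'
    exact mul_mem (mul_mem (C.HT_mem_monomial c) hn) (C.HT_mem_monomial c')
  set w := h'⁻¹ * v * h'
  have hw : w ∈ C.US F C.Pos := by
    have := (Subgroup.mem_normalizer_iff.1 (C.diag_le_normalizer C.Pos (inv_mem hh')) v).1 hv
    rwa [inv_inv] at this
  rw [show u * h * n * (v * h') = u * (N * w) by simp only [hN, w]; group, hAf u hu, hleft u hu, hright _ w hw, hA]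
  have hterm : ∀ t, (C.P F i)⁻¹ * C.X F (C.p i) (-t) * (N * w) = (C.P F i)⁻¹ * C.X F (C.p i) (-t) * N * w :=
    fun t => by group
  simp only [hterm, hright _ w hw]
  clear_value N w
  obtain ⟨σ, -, hσ⟩ := C.exists_acts hNm
  -- support
  have hsupp : ∀ M σM, C.Acts M σM → (∃ c, Supp M c) → M ∈ D.monomialSubgroup F →
      ∀ m ∉ K, σM⁻¹ (C.p m) ∈ C.Neg := by
    rintro M σM hM ⟨c, u, hu, q, hq, v, hv, e⟩ hMm m hm
    have heq := monomial_eq_of_cell H hinj (hmon c q hq) hMm hu hv (one_mem _) (one_mem _) (by rw [← e]; group)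
    obtain ⟨τ, -, hτ⟩ := C.exists_acts (hNK hq)
    have hσM : σM = τ * σ0 := by
      refine C.acts_unique F hM ?_
      rw [← heq]
      have := C.acts_mul F (C.acts_mul F (C.acts_HT F c) hτ) (C.acts_wprod F L)
      rwa [one_mul] at this
    have hpos : τ⁻¹ (C.p m) ∈ C.Pos := C.pos_of_coord (m := m) (by
      rw [coord_NK (inv_mem hq) (C.acts_inv F hτ) hm, C.v_p, Pi.single_eq_same]; omega)
    rw [hσM, mul_inv_rev, Equiv.Perm.mul_apply]
    by_contra hn
    have h1 := hL0 _ (not_not.1 fun h => hn ((C.neg_iff_not_pos _).2 h))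
    rw [show σ0 (σ0⁻¹ (τ⁻¹ (C.p m))) = τ⁻¹ (C.p m) from σ0.apply_symm_apply _] at h1
    exact (C.neg_iff_not_pos _).1 h1 hpos
  have hconjX : ∀ (r : Rt D) (t : F), σ⁻¹ r ∈ C.Pos → ∃ w ∈ C.US F C.Pos, C.X F r t * N = N * w := by
    intro r t hr
    obtain ⟨e, he⟩ := hσ (σ⁻¹ r)
    rw [show σ (σ⁻¹ r) = r from σ.apply_symm_apply _] at he
    refine ⟨C.X F (σ⁻¹ r) ((↑e⁻¹ : F) * t), C.X_mem_US F hr _, ?_⟩
    have := he ((↑e⁻¹ : F) * t)
    rw [Units.mul_inv_cancel_left] at this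
    rw [← this]; group
  have hcard : ∀ a : k, ∑ _t : F, a = 0 := fun a => by
    rw [Finset.sum_const, Finset.card_univ, GRep.card_smul_eq_zero (k := k) H]
  have hKμ : ∀ m ∈ K, mu P m = 0 := fun m hm => by
    have : P m = some 1 := hm
    simp [mu, this]
  by_cases hpos : σ⁻¹ (C.p i) ∈ C.Pos
  · have hfN : mu P i * f N = 0 := by
      by_cases hi : i ∈ K
      · rw [hKμ i hi, zero_mul]
      · rw [hzero N fun c hc => (C.neg_iff_not_pos _).1 (hsupp N σ hσ ⟨c, hc⟩ hNm i hi) hpos, mul_zero]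
    rw [hfN]
    refine (Finset.sum_congr rfl fun t _ => ?_).trans (hcard (f ((C.P F i)⁻¹ * N)))
    obtain ⟨z, hz, e⟩ := hconjX (C.p i) (-t) hpos
    rw [mul_assoc, e, ← mul_assoc, hright _ z hz]
  have hneg : σ⁻¹ (C.p i).rev ∈ C.Pos := by
    have h1 : ∀ r, σ⁻¹ r.rev = (σ⁻¹ r).rev := by
      intro r
      obtain ⟨τ, hτ, hτ'⟩ := C.exists_acts hNm
      rw [C.acts_unique F hσ hτ']
      exact C.WG_rev (⟨τ, hτ⟩ : C.WG)⁻¹ r
    rw [h1]
    exact C.rev_pos ((C.neg_iff_not_pos _).2 hpos)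
  have hterm2 : ∀ t : Fˣ, f ((C.P F i)⁻¹ * C.X F (C.p i) (-(t : F)) * N) = ((P i).getD 1 (-t) : k) * f N := by
    intro t
    obtain ⟨e, he⟩ := GRep.XP_eq H i t
    have h1 : (C.P F i)⁻¹ * C.X F (C.p i) (-(t : F)) =
        C.X F (C.p i) (-e) * (Core.hD F (C.p i) (-t))⁻¹ * C.X F (C.p i).rev (-(↑t⁻¹ : F)) := by
      rw [← C.X_inv, ← mul_inv_rev, he, mul_inv_rev, mul_inv_rev, C.X_inv, C.X_inv, ← mul_assoc]
    obtain ⟨z, hz, hz'⟩ := hconjX (C.p i).rev (-(↑t⁻¹ : F)) hneg
    rw [h1, mul_assoc, mul_assoc, hz', hleft _ (C.X_mem_US F (C.p_pos i) _), ← mul_assoc, hright _ z hz,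
      ← C.HT_single, C.HT_inv, htor]
    congr 2
    rw [← Pi.mulSingle_inv, chi, Finset.prod_eq_single i (fun j _ hj => by simp [hj]) (by simp),
      Pi.mulSingle_eq_same, map_inv, inv_inv]
  rw [← Finset.add_sum_erase _ _ (Finset.mem_univ (0 : F)), neg_zero, C.X_zero, mul_one]
  have hsum : ∑ t ∈ Finset.univ.erase (0 : F), f ((C.P F i)⁻¹ * C.X F (C.p i) (-t) * N) =
      (∑ s : Fˣ, ((Units.coeHom k).comp ((P i).getD 1)) s) * f N := by
    rw [Finset.sum_mul]
    refine Finset.sum_bij' (fun t ht => -Units.mk0 t (Finset.ne_of_mem_erase ht)) (fun s _ => ((-s : Fˣ) : F))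
      (fun _ _ => Finset.mem_univ _) (fun s _ => Finset.mem_erase.2 ⟨Units.ne_zero _, Finset.mem_univ _⟩)
      (fun t _ => by simp) (fun s _ => by ext; simp) (fun t ht => hterm2 (Units.mk0 t (Finset.ne_of_mem_erase ht)))
  rw [hsum, sum_hom_units]
  have hq : ((Fintype.card Fˣ : ℕ) : k) = -1 := by
    rw [Fintype.card_units, Nat.cast_sub Fintype.card_pos, Nat.cast_one]
    have : ((Fintype.card F : ℕ) : k) = 0 := by
      rw [CharP.cast_eq_zero_iff k (ringChar F), ← CharP.cast_eq_zero_iff F (ringChar F)]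
      exact Nat.cast_card_eq_zero F
    rw [this, zero_sub]
  by_cases hi : i ∈ K
  · have hPi : P i = some 1 := hi
    have hPf : f ((C.P F i)⁻¹ * N) = f N := by
      have hmem : C.P F i ∈ NK C F K := Subgroup.subset_closure ⟨i, hi, rfl⟩
      have key : ∀ M, M ∈ D.monomialSubgroup F → (∃ c, Supp M c) → ∀ g ∈ NK C F K,
          g = (C.P F i)⁻¹ ∨ g = C.P F i →
          f (g * M) = f M := by
        rintro M hMm ⟨c, u, hu, q, hq, v, hv, e⟩ g hg hgP
        have heq := monomial_eq_of_cell H hinj (hmon c q hq) hMm hu hv (one_mem _) (one_mem _) (by rw [← e]; group)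
        have hcase : ∃ d ∈ TK F K, ∃ q' ∈ NK C F K, g * (C.HT F c * q * n0) = C.HT F (c * d) * q' * n0 := by
          rcases hgP with rfl | rfl
          · refine ⟨Pi.mulSingle i (-1) * (Pi.mulSingle i (C.chA c (C.p i))⁻¹), mul_mem (single_mem_TK hi _)
              (single_mem_TK hi _), C.P F i * q, mul_mem hmem hq, ?_⟩
            rw [P_inv_single, ← mul_assoc c, mul_comm c (Pi.mulSingle i (-1)), mul_assoc (Pi.mulSingle i (-1)),
              ← C.HT_mul]
            calc C.HT F (Pi.mulSingle i (-1)) * C.P F i * (C.HT F c * q * n0)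
                = C.HT F (Pi.mulSingle i (-1)) * (C.P F i * C.HT F c) * q * n0 := by group
              _ = _ := by rw [P_HT_single]; group
          · refine ⟨Pi.mulSingle i (C.chA c (C.p i))⁻¹, single_mem_TK hi _, C.P F i * q, mul_mem hmem hq, ?_⟩
            rw [← mul_assoc (C.HT F _), ← P_HT_single]
            group
        obtain ⟨d, hd, q', hq', e'⟩ := hcase
        rw [← heq, e', hval _ (c * d) ⟨1, one_mem _, q', hq', 1, one_mem _, by group⟩,
          hval _ c ⟨1, one_mem _, q, hq, 1, one_mem _, by group⟩, chi_mul, chi_TK P hd, mul_one]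
      by_cases h : ∃ c, Supp N c
      · exact key N hNm h _ (inv_mem hmem) (Or.inl rfl)
      · by_cases h' : ∃ c, Supp ((C.P F i)⁻¹ * N) c
        · have := key _ (mul_mem (inv_mem (C.P_mem_monomial i)) hNm) h' _ hmem (Or.inr rfl)
          rw [mul_inv_cancel_left] at this
          exact this.symm
        · push Not at h h'
          rw [hzero _ h, hzero _ h']
    rw [hPf, hKμ i hi, zero_mul, if_pos (by simp [hPi]), hq]
    ring
  · have hPN : f ((C.P F i)⁻¹ * N) = 0 := by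
      refine hzero _ fun c hc => ?_
      have h := hsupp _ _ (C.acts_mul F (C.acts_inv F hP) hσ) ⟨c, hc⟩
        (mul_mem (inv_mem (C.P_mem_monomial i)) hNm) i hi
      rw [mul_inv_rev, inv_inv, Equiv.Perm.mul_apply, C.sref_apply, C.w_p] at h
      exact (C.neg_iff_not_pos _).1 h hneg
    rw [hPN, zero_add]
    congr 1
    cases hc : P i with
    | none =>
      rw [if_pos (by ext; simp), hq]
      simp [mu, hc]
    | some ψ =>
      have hψ : ψ ≠ 1 := fun e => hi (show P i = some 1 by rw [hc, e])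
      rw [if_neg, Nat.cast_zero]
      · simp [mu, hc]
      · intro e
        exact hψ (MonoidHom.ext fun b => Units.ext (DFunLike.congr_fun e b))

end Cfsg.Agent.Lib.CurtisRichen
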