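import Cfsg.Agent.Lib.CurtisRichen.Existence
import Cfsg.Agent.Lib.CurtisRichen.Brauer
import Mathlib.FieldTheory.IsAlgClosed.AlgebraicClosure
import Mathlib.GroupTheory.FiniteAbelian.Duality
import Mathlib.RingTheory.RootsOfUnity.AlgebraicallyClosed

/-!
A Chevalley group with injective coroot parametrisation of the torus has q^rank classes of p-regular elements.
-/

set_option autoImplicit false
set_option linter.unusedSectionVars false

namespace Cfsg.Agent.Lib.CurtisRichen

open Cfsg.Lie Cfsg.Agent.Lib.ChevStructure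
open scoped MatrixGroups Matrix

variable {k : Type*} [Field k] {D : ChevalleyDatum} {F : Type*} [Field F] [Fintype F] {C : Core D}

section Module

variable (W : Type*) [AddCommGroup W] [Module (MonoidAlgebra k ↥(D.group F)) W] [Module k W]
  [IsScalarTower k (MonoidAlgebra k ↥(D.group F)) W]

open scoped Classical in
/-- The representation carried by a module over the group algebra. -/
noncomputable def ofModule : GRep k D F W where
  toFun g := if h : g ∈ D.group F then Algebra.lsmul k k W (MonoidAlgebra.of k ↥(D.group F) ⟨g, h⟩) else 0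
  map_one' := by
    rw [dif_pos (one_mem (D.group F)), show (⟨1, one_mem _⟩ : ↥(D.group F)) = 1 from rfl, map_one, map_one]
  map_mul' g hg h hh := by
    rw [dif_pos hg, dif_pos hh, dif_pos (mul_mem hg hh), ← map_mul, ← map_mul]
    rfl

theorem ofModule_apply {g : GL D.Idx F} (hg : g ∈ D.group F) (w : W) :
    (ofModule (k := k) W).toFun g w = MonoidAlgebra.of k ↥(D.group F) ⟨g, hg⟩ • w := by
  simp [ofModule, dif_pos hg]

theorem irr_ofModule [IsSimpleModule (MonoidAlgebra k ↥(D.group F)) W] : (ofModule (k := k) (D := D) (F := F) W).Irr := by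
  refine ⟨IsSimpleModule.nontrivial (MonoidAlgebra k ↥(D.group F)) W, fun E hE => ?_⟩
  let E' : Submodule (MonoidAlgebra k ↥(D.group F)) W :=
    { carrier := E
      add_mem' := E.add_mem
      zero_mem' := E.zero_mem
      smul_mem' := fun a x hx => by
        induction a using MonoidAlgebra.induction_on with
        | of g =>
          have := hE g g.2 x hx
          rwa [ofModule_apply W g.2] at this
        | add a b ha hb => rw [add_smul]; exact E.add_mem ha hb
        | smul r a ha => rw [smul_assoc]; exact E.smul_mem r ha }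
  rcases eq_bot_or_eq_top E' with h | h
  · exact Or.inl (eq_bot_iff.2 fun x hx => (h.le hx : x ∈ (⊥ : Submodule _ W)))
  · exact Or.inr (eq_top_iff.2 fun x _ => (h.ge trivial : x ∈ E'))

/-- An equivariant linear equivalence is linear over the group algebra. -/
noncomputable def equivOfModule {W' : Type*} [AddCommGroup W'] [Module (MonoidAlgebra k ↥(D.group F)) W']
    [Module k W'] [IsScalarTower k (MonoidAlgebra k ↥(D.group F)) W'] (e : W ≃ₗ[k] W')
    (he : ∀ g ∈ D.group F, ∀ x, e ((ofModule (k := k) W).toFun g x) = (ofModule (k := k) W').toFun g (e x)) :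
    W ≃ₗ[MonoidAlgebra k ↥(D.group F)] W' :=
  { e.toAddEquiv with
    map_smul' := fun a x => by
      show e (a • x) = a • e x
      induction a using MonoidAlgebra.induction_on with
      | of g =>
        have := he g g.2 x
        rwa [ofModule_apply W g.2, ofModule_apply W' g.2] at this
      | add a b ha hb => rw [add_smul, map_add, ha, hb, add_smul]
      | smul r a ha => rw [smul_assoc, map_smul, ha, smul_assoc] }

end Module

theorem card_param [IsAlgClosed k] [CharP k (ringChar F)] :
    Nat.card (Param k D F) = Nat.card F ^ D.rank := by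
  classical
  haveI := ringChar.charP F
  have hF : 1 < Nat.card F := Finite.one_lt_card
  haveI : NeZero ((Monoid.exponent Fˣ : ℕ) : k) := by
    have he : Monoid.exponent Fˣ = Nat.card F - 1 := by rw [IsCyclic.exponent_eq_card, Nat.card_units]
    constructor
    rw [he, Nat.cast_sub hF.le, Nat.cast_one]
    have : ((Nat.card F : ℕ) : k) = 0 := by
      rw [Nat.card_eq_fintype_card, CharP.cast_eq_zero_iff k (ringChar F), ← CharP.cast_eq_zero_iff F (ringChar F)]
      exact Nat.cast_card_eq_zero F
    rw [this, zero_sub]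
    exact neg_ne_zero.2 one_ne_zero
  obtain ⟨e⟩ := CommGroup.monoidHom_mulEquiv_of_hasEnoughRootsOfUnity Fˣ k
  haveI : Finite (Fˣ →* kˣ) := Finite.of_equiv _ e.toEquiv.symm
  rw [Nat.card_fun, Nat.card_fin, Finite.card_option, Nat.card_congr e.toEquiv, Nat.card_units,
    Nat.sub_add_cancel hF.le]

variable (H : CommOK C) (hinj : ∀ c c' : Fin D.rank → Fˣ, C.HT F c = C.HT F c' → c = c')
include H hinj

/-- Every parameter is the parameter of some simple module. -/
theorem exists_maximal [CharP k (ringChar F)] (P : Param k D F) :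
    ∃ n : Ideal (MonoidAlgebra k ↥(D.group F)), n.IsMaximal ∧
      ∃ m, (ofModule (k := k) (MonoidAlgebra k ↥(D.group F) ⧸ n)).HW C P m := by
  classical
  obtain ⟨f, hf⟩ := exists_hw_function H hinj P
  set ρ := regular k D F
  let φ : ↥(D.group F) →* Module.End k (GL D.Idx F → k) :=
    { toFun := fun g => ρ.toFun g
      map_one' := ρ.map_one'
      map_mul' := fun g h => ρ.map_mul' g g.2 h h.2 }
  let ev : MonoidAlgebra k ↥(D.group F) →ₗ[k] (GL D.Idx F → k) :=
    (LinearMap.applyₗ f).comp (MonoidAlgebra.lift k _ _ φ).toLinearMap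
  have hev : ∀ a, ev a = MonoidAlgebra.lift k (Module.End k (GL D.Idx F → k)) _ φ a f := fun a => rfl
  let J : Ideal (MonoidAlgebra k ↥(D.group F)) :=
    { carrier := {a | ev a = 0}
      add_mem' := fun {a b} (ha : ev a = 0) (hb : ev b = 0) => show ev (a + b) = 0 by rw [map_add, ha, hb, add_zero]
      zero_mem' := map_zero ev
      smul_mem' := fun a x (hx : ev x = 0) => by
        show ev (a * x) = 0
        rw [hev, map_mul, Module.End.mul_apply, ← hev x, hx, map_zero] }
  have hJ : J ≠ ⊤ := fun h => by
    have h1 : (1 : MonoidAlgebra k ↥(D.group F)) ∈ J := h ▸ Submodule.mem_top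
    change ev 1 = 0 at h1
    rw [hev, map_one] at h1
    exact hf.ne_zero h1
  obtain ⟨n, hn, hle⟩ := Ideal.exists_le_maximal J hJ
  refine ⟨n, hn, Submodule.Quotient.mk 1, ?_⟩
  have hkey : ∀ (a : MonoidAlgebra k ↥(D.group F)) (r : k), ev a = r • f →
      (Submodule.Quotient.mk a : MonoidAlgebra k ↥(D.group F) ⧸ n) = r • Submodule.Quotient.mk 1 := by
    intro a r h
    rw [← Submodule.Quotient.mk_smul, Submodule.Quotient.eq]
    refine hle ?_
    show ev (a - r • (1 : MonoidAlgebra k ↥(D.group F))) = 0
    rw [map_sub, map_smul, h, hev 1, map_one, Module.End.one_apply, sub_self]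
  have hof : ∀ (g : GL D.Idx F) (hg : g ∈ D.group F),
      ev (MonoidAlgebra.of k ↥(D.group F) ⟨g, hg⟩) = ρ.toFun g f := fun g hg => by
    rw [hev, MonoidAlgebra.lift_of]; rfl
  have hact : ∀ (g : GL D.Idx F) (hg : g ∈ D.group F),
      (ofModule (k := k) (MonoidAlgebra k ↥(D.group F) ⧸ n)).toFun g (Submodule.Quotient.mk 1) =
        Submodule.Quotient.mk (MonoidAlgebra.of k ↥(D.group F) ⟨g, hg⟩) := fun g hg => by
    rw [ofModule_apply _ hg, ← Submodule.Quotient.mk_smul, smul_eq_mul, mul_one]
  constructor
  · intro h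
    rw [Submodule.Quotient.mk_eq_zero] at h
    exact hn.ne_top ((Ideal.eq_top_iff_one n).2 h)
  · intro u hu
    rw [hact u (C.US_le_group _ hu), hkey _ 1 (by rw [hof, hf.fixed u hu, one_smul]), one_smul]
  · intro c
    rw [hact _ (C.HT_mem_group c)]
    exact hkey _ _ (by rw [hof, hf.torus c])
  · intro i
    have hg : ∀ t, C.X F (C.p i) t * C.P F i ∈ D.group F := GRep.mem_XP H i
    rw [GRep.A, Finset.sum_congr rfl fun t _ => hact _ (hg t)]
    have : (∑ t, (Submodule.Quotient.mk (MonoidAlgebra.of k ↥(D.group F) ⟨_, hg t⟩) : MonoidAlgebra k ↥(D.group F) ⧸ n)) =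
        Submodule.Quotient.mk (∑ t, MonoidAlgebra.of k ↥(D.group F) ⟨_, hg t⟩) :=
      (map_sum n.mkQ (fun t => MonoidAlgebra.of k ↥(D.group F) ⟨_, hg t⟩) Finset.univ).symm
    rw [this]
    refine hkey _ _ ?_
    rw [map_sum, Finset.sum_congr rfl fun t _ => hof _ (hg t)]
    exact hf.eigen i

/-- The count of p-regular classes, over a given algebraically closed field. -/
theorem card_pRegular_classes_aux {K : Type*} [Field K] [IsAlgClosed K] [Fact (ringChar F).Prime]
    [CharP K (ringChar F)] :
    Nat.card {c : ConjClasses ↥(D.group F) // ∃ g : ↥(D.group F), ConjClasses.mk g = c ∧ (orderOf g).Coprime (ringChar F)} =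
      Nat.card F ^ D.rank := by
  classical
  haveI : Finite (GL D.Idx F) := inferInstance
  choose n hn m hm using exists_maximal (k := K) H hinj
  haveI : ∀ P, IsSimpleModule (MonoidAlgebra K ↥(D.group F)) (MonoidAlgebra K ↥(D.group F) ⧸ n P) :=
    fun P => isSimpleModule_iff_isCoatom.mpr (hn P).out
  haveI : Finite (Param K D F) := Nat.finite_of_card_ne_zero (by
    rw [card_param]; exact pow_ne_zero _ Nat.card_pos.ne')
  rw [← card_param (k := K)]
  refine Brauer.card_pRegular (k := K) (p := ringChar F) n hn ?_ ?_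
  · rintro P Q ⟨e⟩
    have hQ : (ofModule (k := K) (MonoidAlgebra K ↥(D.group F) ⧸ n Q)).HW C P (e (m P)) := by
      have he : ∀ g ∈ D.group F, ∀ x, (ofModule (k := K) (MonoidAlgebra K ↥(D.group F) ⧸ n Q)).toFun g (e x) =
          e ((ofModule (k := K) (MonoidAlgebra K ↥(D.group F) ⧸ n P)).toFun g x) := fun g hg x => by
        rw [ofModule_apply _ hg, ofModule_apply _ hg, map_smul]
      have hr : ∀ (r : K) x, e (r • x) = r • e x := fun r x => (e.restrictScalars K).map_smul r x
      refine ⟨fun h => (hm P).ne_zero (e.injective (by rw [h, map_zero])), fun u hu => ?_, fun c => ?_, fun i => ?_⟩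
      · rw [he u (C.US_le_group _ hu), (hm P).fixed u hu]
      · rw [he _ (C.HT_mem_group c), (hm P).torus c, hr]
      · have h := congrArg e ((hm P).eigen i)
        rw [hr, GRep.A, map_sum] at h
        rw [GRep.A, Finset.sum_congr rfl fun t _ => he _ (GRep.mem_XP H i t) _]
        exact h
    exact GRep.param_unique H (irr_ofModule _) hQ (hm Q)
  · intro n' hn'
    haveI : IsSimpleModule (MonoidAlgebra K ↥(D.group F)) (MonoidAlgebra K ↥(D.group F) ⧸ n') :=
      isSimpleModule_iff_isCoatom.mpr hn'.out
    haveI := IsSimpleModule.nontrivial (MonoidAlgebra K ↥(D.group F)) (MonoidAlgebra K ↥(D.group F) ⧸ n')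
    obtain ⟨P, z, hz⟩ := GRep.exists_hw (ρ := ofModule (k := K) (MonoidAlgebra K ↥(D.group F) ⧸ n')) H
    obtain ⟨e, he⟩ := GRep.exists_equiv H (irr_ofModule _) (irr_ofModule _) hz (hm P)
    exact ⟨P, ⟨equivOfModule _ e he⟩⟩

/-- The count of p-regular classes. -/
theorem card_pRegular_classes (p : ℕ) [Fact p.Prime] [CharP F p] :
    Nat.card {c : ConjClasses ↥(D.group F) // ∃ g : ↥(D.group F), ConjClasses.mk g = c ∧ (orderOf g).Coprime p} =
      Nat.card F ^ D.rank := by
  obtain rfl : ringChar F = p := ringChar.eq F p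
  haveI : CharP (AlgebraicClosure F) (ringChar F) :=
    charP_of_injective_algebraMap (algebraMap F (AlgebraicClosure F)).injective (ringChar F)
  exact card_pRegular_classes_aux H hinj (K := AlgebraicClosure F)

end Cfsg.Agent.Lib.CurtisRichen
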