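import Cfsg.Agent.Lib.ChevBlocks49.Cell
import Cfsg.Agent.Lib.ChevStructure.NormalForm
import Mathlib.RingTheory.RootsOfUnity.Minpoly
import Mathlib.RingTheory.IntegralDomain
import Mathlib.LinearAlgebra.Eigenspace.Triangularizable
import Mathlib.GroupTheory.PGroup

/-!
Representations of a Chevalley group in the defining characteristic: fixed vectors of U, the operators
`A_i = Σ_t x_{p_i}(t) n_i` and the rank-one relations.
-/

set_option autoImplicit false
set_option linter.unusedSectionVars false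
set_option maxHeartbeats 40000

namespace Cfsg.Agent.Lib.CurtisRichen

open Cfsg.Lie Cfsg.Agent.Lib.ChevStructure
open scoped MatrixGroups Matrix

variable (k : Type*) [Field k] (D : ChevalleyDatum) (F : Type*) [Field F] (W : Type*) [AddCommGroup W]
  [Module k W]

/-- A linear representation of `D.group F`, given on matrices. -/
structure GRep where
  /-- the operator of a matrix -/
  toFun : GL D.Idx F → Module.End k W
  map_one' : toFun 1 = 1
  map_mul' : ∀ g ∈ D.group F, ∀ h ∈ D.group F, toFun (g * h) = toFun g * toFun h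

variable {k D F W} {C : Core D}

namespace GRep

variable (ρ : GRep k D F W)

theorem one_apply (w : W) : ρ.toFun 1 w = w := by rw [ρ.map_one']; rfl

theorem mul_apply {g h : GL D.Idx F} (hg : g ∈ D.group F) (hh : h ∈ D.group F) (w : W) :
    ρ.toFun (g * h) w = ρ.toFun g (ρ.toFun h w) := by rw [ρ.map_mul' g hg h hh]; rfl

theorem inv_apply {g : GL D.Idx F} (hg : g ∈ D.group F) (w : W) : ρ.toFun g⁻¹ (ρ.toFun g w) = w := by
  rw [← ρ.mul_apply (inv_mem hg) hg, inv_mul_cancel, ρ.one_apply]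

theorem apply_inv {g : GL D.Idx F} (hg : g ∈ D.group F) (w : W) : ρ.toFun g (ρ.toFun g⁻¹ w) = w := by
  rw [← ρ.mul_apply hg (inv_mem hg), mul_inv_cancel, ρ.one_apply]

/-- A submodule stable under the group. -/
def Stable (E : Submodule k W) : Prop := ∀ g ∈ D.group F, ∀ x ∈ E, ρ.toFun g x ∈ E

/-- Irreducibility. -/
structure Irr : Prop where
  nontriv : Nontrivial W
  simple : ∀ E : Submodule k W, ρ.Stable E → E = ⊥ ∨ E = ⊤

/-- A vector fixed by U on which the torus acts by scalars (possibly zero). -/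
structure Sing (C : Core D) (y : W) : Prop where
  fixed : ∀ u ∈ C.US F C.Pos, ρ.toFun u y = y
  torus : ∀ c, ∃ a : k, ρ.toFun (C.HT F c) y = a • y

/-- The operator `Σ_t x_{p_i}(t) n_i`. -/
noncomputable def A [Fintype F] (C : Core D) (i : Fin D.rank) (y : W) : W :=
  ∑ t : F, ρ.toFun (C.X F (C.p i) t * C.P F i) y

variable {ρ}

theorem Sing.smul {y : W} (hy : ρ.Sing C y) (a : k) : ρ.Sing C (a • y) :=
  ⟨fun u hu => by rw [map_smul, hy.fixed u hu],
    fun c => (hy.torus c).imp fun b hb => by rw [map_smul, hb, smul_comm]⟩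

variable [Fintype F]

theorem A_smul (i : Fin D.rank) (a : k) (y : W) : ρ.A C i (a • y) = a • ρ.A C i y := by
  simp [A, Finset.smul_sum]

theorem A_zero (i : Fin D.rank) : ρ.A C i (0 : W) = 0 := by simp [A]

variable (H : CommOK C)
include H

theorem mem_XP (i : Fin D.rank) (t : F) : C.X F (C.p i) t * C.P F i ∈ D.group F :=
  mul_mem (C.X_mem_group _ _) (C.P_mem_group i)

theorem A_fixed (i : Fin D.rank) {y : W} (hy : ∀ u ∈ C.US F C.Pos, ρ.toFun u y = y) :
    ∀ u ∈ C.US F C.Pos, ρ.toFun u (ρ.A C i y) = ρ.A C i y := by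
  intro u hu
  obtain ⟨b, hb, a, rfl⟩ := H.exists_split_p i hu
  rw [A, map_sum]
  refine Fintype.sum_equiv (Equiv.addLeft a) _ _ fun t => ?_
  rw [← ρ.mul_apply (C.US_le_group _ hu) (mem_XP H i t), Equiv.coe_addLeft]
  set X := C.X F (C.p i) (a + t) with hX
  have hb1 : X⁻¹ * b * X ∈ C.US F (C.posBut i) := by
    have hN := H.root_le_normalizer (R := F) i
      (Subgroup.mem_sup_left (C.X_mem_US F (S := {C.p i}) rfl (a + t)))
    have := (Subgroup.mem_normalizer_iff.1 (inv_mem hN) b).1 hb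
    simpa [hX] using this
  have hP : C.Acts (C.P F i) (C.sref i) := by simpa [Core.wprod, Core.pprod] using C.acts_wprod F [i]
  have hb2 : (C.P F i)⁻¹ * (X⁻¹ * b * X) * C.P F i ∈ C.US F C.Pos := by
    have h := C.conj_mem_US F (C.acts_inv F hP) (T := C.Pos) (fun r hr => ?_) hb1
    · rwa [inv_inv] at h
    · rw [inv_eq_of_mul_eq_one_right (C.sref_mul_self i), C.sref_apply]
      exact (C.w_posBut hr).1
  rw [show b * C.X F (C.p i) a * (C.X F (C.p i) t * C.P F i) =
      X * C.P F i * ((C.P F i)⁻¹ * (X⁻¹ * b * X) * C.P F i) by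
        rw [hX, ← C.X_add]; group,
    ρ.mul_apply (mem_XP H i _) (C.US_le_group _ hb2), hy _ hb2]

theorem A_torus (i : Fin D.rank) {y : W} (hy : ρ.Sing C y) (c : Fin D.rank → Fˣ) :
    ∃ a : k, ρ.toFun (C.HT F c) (ρ.A C i y) = a • ρ.A C i y := by
  obtain ⟨c', hc'⟩ := C.mem_diagonal_iff.1
    (C.conj_diagonal (inv_mem (C.P_mem_monomial (F := F) i)) (C.HT_mem_diagonal c))
  obtain ⟨a, ha⟩ := hy.torus c'
  refine ⟨a, ?_⟩
  rw [A, map_sum, Finset.smul_sum]
  refine Fintype.sum_equiv (Equiv.mulLeft₀ ((C.chA c (C.p i) : Fˣ) : F) (Units.ne_zero _)) _ _ fun t => ?_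
  rw [Equiv.mulLeft₀_apply, ← ρ.mul_apply (C.HT_mem_group c) (mem_XP H i t),
    show C.HT F c * (C.X F (C.p i) t * C.P F i) =
      C.X F (C.p i) ((C.chA c (C.p i) : F) * t) * C.P F i * C.HT F c' by
        rw [← hc', ← C.HT_X_conj]; group,
    ρ.mul_apply (mem_XP H i _) (C.HT_mem_group c'), ha, map_smul]

theorem Sing.A {y : W} (hy : ρ.Sing C y) (i : Fin D.rank) : ρ.Sing C (ρ.A C i y) :=
  ⟨A_fixed H i hy.fixed, A_torus H i hy⟩

theorem card_smul_eq_zero [CharP k (ringChar F)] (w : W) : (Fintype.card F : ℕ) • w = 0 := by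
  rw [← Nat.cast_smul_eq_nsmul k]
  haveI := ringChar.charP F
  have : ((Fintype.card F : ℕ) : k) = 0 := by
    rw [CharP.cast_eq_zero_iff k (ringChar F), ← CharP.cast_eq_zero_iff F (ringChar F)]
    exact Nat.cast_card_eq_zero F
  rw [this, zero_smul]

/-- The quadratic relation. -/
theorem A_A [CharP k (ringChar F)] [DecidableEq F] (i : Fin D.rank) {y : W} (hy : ρ.Sing C y) (θ : Fˣ → k)
    (hθ : ∀ a, ρ.toFun (Core.hD F (C.p i) a) y = θ a • y) :
    ρ.A C i (ρ.A C i y) = (∑ s : Fˣ, θ (-s)) • ρ.A C i y := by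
  obtain ⟨c, hc⟩ := C.P_sq F i
  obtain ⟨a0, ha0⟩ := hy.torus c
  have hg : ∀ t, C.X F (C.p i) t * C.P F i ∈ D.group F := mem_XP H i
  have h0 : ∑ t : F, ρ.toFun (C.X F (C.p i) t * C.P F i) (ρ.toFun (C.X F (C.p i) 0 * C.P F i) y) = 0 := by
    have : ∀ t, ρ.toFun (C.X F (C.p i) t * C.P F i) (ρ.toFun (C.X F (C.p i) 0 * C.P F i) y) = a0 • y := by
      intro t
      rw [← ρ.mul_apply (hg t) (hg 0), C.X_zero, one_mul, mul_assoc, hc,
        ρ.mul_apply (C.X_mem_group _ _) (C.HT_mem_group c), ha0, map_smul,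
        hy.fixed _ (C.X_mem_US F (C.p_pos i) t)]
    rw [Finset.sum_congr rfl fun t _ => this t, Finset.sum_const, Finset.card_univ, card_smul_eq_zero (k := k) H]
  have hs : ∀ (s : Fˣ), ∑ t : F, ρ.toFun (C.X F (C.p i) t * C.P F i) (ρ.toFun (C.X F (C.p i) s * C.P F i) y) =
      θ (-s) • ρ.A C i y := by
    intro s
    have e : C.P F i * C.X F (C.p i) s * C.P F i =
        C.X F (C.p i) (-(↑s⁻¹ : F)) * C.P F i * Core.hD F (C.p i) (-s) * C.X F (C.p i) (-(↑s⁻¹ : F)) := by
      have h1 := congrArg Prod.snd (C.gN_gA_gN F (C.p i) s)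
      have h2 := congrArg Prod.snd (C.gN_gH F (C.p i) (-s))
      rw [Prod.snd_mul, Prod.snd_mul, C.gH_snd, C.gH_snd, show (-s)⁻¹ = -s⁻¹ from inv_neg] at h2
      simp only [Prod.snd_mul, C.gH_snd] at h1
      simp only [Core.gN, Core.gA] at h1 h2
      rw [show C.nR F (C.p i) 1 = C.P F i from rfl] at h1 h2
      rw [h1, mul_assoc (C.X F (C.p i) _) (C.P F i), h2, ← mul_assoc]
    rw [A, Finset.smul_sum]
    refine Fintype.sum_equiv (Equiv.addRight (-(↑s⁻¹ : F))) _ _ fun t => ?_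
    have hh : Core.hD F (C.p i) (-s) ∈ D.group F := by rw [C.hD_eq_HT]; exact C.HT_mem_group _
    rw [Equiv.coe_addRight, ← ρ.mul_apply (hg t) (hg _),
      show C.X F (C.p i) t * C.P F i * (C.X F (C.p i) s * C.P F i) =
        C.X F (C.p i) t * (C.P F i * C.X F (C.p i) s * C.P F i) by group, e,
      show C.X F (C.p i) t * (C.X F (C.p i) (-(↑s⁻¹ : F)) * C.P F i * Core.hD F (C.p i) (-s) *
          C.X F (C.p i) (-(↑s⁻¹ : F))) = C.X F (C.p i) (t + -(↑s⁻¹ : F)) * C.P F i *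
          (Core.hD F (C.p i) (-s) * C.X F (C.p i) (-(↑s⁻¹ : F))) by rw [← C.X_add]; group,
      ρ.mul_apply (hg _) (mul_mem hh (C.X_mem_group _ _)), ρ.mul_apply hh (C.X_mem_group _ _),
      hy.fixed _ (C.X_mem_US F (C.p_pos i) _), hθ, map_smul]
  have key : ρ.A C i (ρ.A C i y) =
      ∑ s : F, ∑ t : F, ρ.toFun (C.X F (C.p i) t * C.P F i) (ρ.toFun (C.X F (C.p i) s * C.P F i) y) := by
    rw [A, Finset.sum_comm]
    exact Finset.sum_congr rfl fun t _ => map_sum _ _ _
  rw [key, ← Finset.add_sum_erase _ _ (Finset.mem_univ (0 : F)), h0, zero_add, Finset.sum_smul]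
  refine Finset.sum_bij' (fun s hs => Units.mk0 s (Finset.ne_of_mem_erase hs)) (fun s _ => (s : F))
    (fun _ _ => Finset.mem_univ _) (fun s _ => by simp) (fun _ _ => rfl) (fun s _ => Units.ext rfl)
    (fun s hs' => hs (Units.mk0 s _))

/-- `x(t) n` is in `V h U` for nonzero `t`. -/
theorem XP_eq (i : Fin D.rank) (t : Fˣ) :
    ∃ e : F, C.X F (C.p i) t * C.P F i =
      C.X F (C.p i).rev (↑t⁻¹ : F) * Core.hD F (C.p i) (-t) * C.X F (C.p i) e := by
  refine ⟨((t : F) + 1) * (↑(-t)⁻¹ : F) + 1, ?_⟩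
  have h := (ChevBlocks49.Cell.rank_one H (C.p i) ((t : F) + 1) (-1)).1 (-t) (by simp)
  rw [Core.P, Core.nR, inv_one, Units.val_one, ← mul_assoc, ← mul_assoc, C.X_add, h,
    mul_assoc _ (C.X F (C.p i) _) (C.X F (C.p i) 1), C.X_add]
  simp

end GRep

end Cfsg.Agent.Lib.CurtisRichen
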