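import Cfsg.Agent.Lib.CurtisRichen.Classify

/-!
Every irreducible representation has a highest weight vector, unique up to a scalar.
-/

set_option autoImplicit false
set_option linter.unusedSectionVars false
set_option maxHeartbeats 80000

namespace Cfsg.Agent.Lib.CurtisRichen.GRep

open Cfsg.Lie Cfsg.Agent.Lib.ChevStructure
open scoped MatrixGroups Matrix

variable {k : Type*} [Field k] {D : ChevalleyDatum} {F : Type*} [Field F] [Fintype F] {C : Core D}
  {W : Type*} [AddCommGroup W] [Module k W]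

/-- The Weyl group element `s_i σ`. -/
def sMul (C : Core D) (i : Fin D.rank) (σ : C.WG) : C.WG :=
  ⟨C.sref i, Subgroup.subset_closure ⟨i, rfl⟩⟩ * σ

/-- The length used for the induction. -/
noncomputable def ilen (C : Core D) (σ : C.WG) : ℕ := C.len ((σ⁻¹ : C.WG) : Equiv.Perm (Rt D))

/-- The image of a vector under the standard operator of a Weyl group element. -/
noncomputable def cellSum (ρ : GRep k D F W) (σ : C.WG) (m : W) : W :=
  ∑ᶠ v : C.US F (C.inv' ((σ⁻¹ : C.WG) : Equiv.Perm (Rt D))), ρ.toFun ((v : GL D.Idx F) * C.rep F σ) m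

theorem sMul_sMul (i : Fin D.rank) (σ : C.WG) : sMul C i (sMul C i σ) = σ := by
  unfold sMul
  rw [← mul_assoc]
  convert one_mul σ
  exact Subtype.ext (C.sref_mul_self i)

theorem sMul_inv_apply (i : Fin D.rank) (σ : C.WG) (r : Rt D) :
    (((sMul C i σ)⁻¹ : C.WG) : Equiv.Perm (Rt D)) r = ((σ⁻¹ : C.WG) : Equiv.Perm (Rt D)) (C.w i r) := by
  simp [sMul, inv_eq_of_mul_eq_one_right (C.sref_mul_self i), C.sref_apply]

theorem ilen_sMul {i : Fin D.rank} {σ : C.WG} (h : ((σ⁻¹ : C.WG) : Equiv.Perm (Rt D)) (C.p i) ∈ C.Pos) :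
    ilen C (sMul C i σ) = ilen C σ + 1 := by
  rw [ilen, show (((sMul C i σ)⁻¹ : C.WG) : Equiv.Perm (Rt D)) = ((σ⁻¹ : C.WG) : Equiv.Perm (Rt D)) * C.sref i
      from Equiv.ext fun r => by rw [sMul_inv_apply]; rfl]
  exact C.len_mul_sref_pos (C.WG_rev σ⁻¹) h

variable (H : CommOK C) {ρ : GRep k D F W}
include H

theorem cellSum_step {m : W} (hm : ρ.Sing C m) (i : Fin D.rank) (σ : C.WG)
    (hσ : ((σ⁻¹ : C.WG) : Equiv.Perm (Rt D)) (C.p i) ∈ C.Pos) (hm0 : m ≠ 0) :
    ∃ a : k, a ≠ 0 ∧ ρ.A C i (cellSum ρ σ m) = a • cellSum ρ (sMul C i σ) m := by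
  classical
  haveI := Finite.of_injective (fun g : GL D.Idx F => (g : Matrix D.Idx D.Idx F)) Units.val_injective
  set τ := sMul C i σ with hτ
  set n := C.rep F σ
  set n' := C.rep F τ
  have hP : C.Acts (C.P F i) (C.sref i) := by simpa [Core.wprod, Core.pprod] using C.acts_wprod F [i]
  have hmon : n'⁻¹ * (C.P F i * n) ∈ D.diagonalSubgroup F := by
    refine C.mem_diagonal_of_acts_one (mul_mem (inv_mem (C.rep_mem τ)) (mul_mem (C.P_mem_monomial i) (C.rep_mem σ))) ?_
    have := C.acts_mul F (C.acts_inv F (C.acts_rep F τ)) (C.acts_mul F hP (C.acts_rep F σ))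
    rwa [show ((τ : C.WG) : Equiv.Perm (Rt D))⁻¹ * (C.sref i * (σ : Equiv.Perm (Rt D))) = 1 from inv_mul_cancel _]
      at this
  obtain ⟨e, he⟩ := C.mem_diagonal_iff.1 hmon
  obtain ⟨a, ha⟩ := hm.torus e
  have ha0 : a ≠ 0 := by
    intro h
    rw [h, zero_smul] at ha
    have := ρ.inv_apply (C.HT_mem_group e) m
    rw [ha, map_zero] at this
    exact hm0 this.symm
  refine ⟨a, ha0, ?_⟩
  set S := C.US F (C.inv' ((σ⁻¹ : C.WG) : Equiv.Perm (Rt D)))
  set S' := C.US F (C.inv' ((τ⁻¹ : C.WG) : Equiv.Perm (Rt D)))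
  have hsub : ∀ r ∈ C.inv' ((σ⁻¹ : C.WG) : Equiv.Perm (Rt D)), r ∈ C.posBut i := fun r hr =>
    ⟨hr.1, fun h => (C.neg_iff_not_pos _).1 hr.2 (by rwa [Set.mem_singleton_iff.1 h])⟩
  have hconj : ∀ v ∈ S, C.P F i * v * (C.P F i)⁻¹ ∈ C.US F (C.posBut i) ∧ C.P F i * v * (C.P F i)⁻¹ ∈ S' := by
    intro v hv
    refine ⟨C.conj_mem_US F hP (fun r hr => ?_) hv, C.conj_mem_US F hP (fun r hr => ?_) hv⟩
    · rw [C.sref_apply]; exact C.w_posBut (hsub r hr)
    · rw [C.sref_apply]
      exact ⟨(C.w_posBut (hsub r hr)).1, by rw [hτ, sMul_inv_apply, C.w_w]; exact hr.2⟩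
  have hp' : ∀ t, C.X F (C.p i) t ∈ S' := fun t => C.X_mem_US F
    (S := C.inv' ((τ⁻¹ : C.WG) : Equiv.Perm (Rt D)))
    ⟨C.p_pos i, by rw [hτ, sMul_inv_apply, C.w_p, C.WG_rev]; exact C.rev_neg hσ⟩ t
  let f : F × S → S' := fun x =>
    ⟨C.X F (C.p i) x.1 * (C.P F i * (x.2 : GL D.Idx F) * (C.P F i)⁻¹), mul_mem (hp' _) (hconj _ x.2.2).2⟩
  have hinj : Function.Injective f := by
    rintro ⟨t, v⟩ ⟨t', v'⟩ h
    have h' : C.X F (C.p i) t * (C.P F i * (v : GL D.Idx F) * (C.P F i)⁻¹) =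
        C.X F (C.p i) t' * (C.P F i * (v' : GL D.Idx F) * (C.P F i)⁻¹) := congrArg Subtype.val h
    have hd : C.X F (C.p i) (-t' + t) ∈ C.US F (C.posBut i) := by
      have : C.X F (C.p i) (-t' + t) =
          C.P F i * (v' : GL D.Idx F) * (C.P F i)⁻¹ * (C.P F i * (v : GL D.Idx F) * (C.P F i)⁻¹)⁻¹ := by
        rw [← C.X_add, ← C.X_inv]
        calc (C.X F (C.p i) t')⁻¹ * C.X F (C.p i) t
            = (C.X F (C.p i) t')⁻¹ * (C.X F (C.p i) t * (C.P F i * (v : GL D.Idx F) * (C.P F i)⁻¹)) *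
              (C.P F i * (v : GL D.Idx F) * (C.P F i)⁻¹)⁻¹ := by group
          _ = _ := by rw [h']; group
      rw [this]
      exact mul_mem (hconj _ v'.2).1 (inv_mem (hconj _ v.2).1)
    have ht : -t' + t = 0 := by
      have h1 : C.P F i * C.X F (C.p i) (-t' + t) * (C.P F i)⁻¹ ∈ C.US F (C.posBut i) :=
        C.conj_mem_US F hP (fun r hr => by rw [C.sref_apply]; exact C.w_posBut hr) hd
      rw [C.P_X_conj, C.w_p, C.η_p] at h1
      have := C.X_neg_mem_borel (C.rev_neg (C.p_pos i)) (C.posUS_le_borel (C.US_mono F Set.sdiff_subset h1))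
      have h0 : -t + t' = 0 := by simpa using this
      linear_combination -h0
    have ht' : t = t' := by rw [← add_neg_eq_zero, add_comm]; exact ht
    subst ht'
    exact Prod.ext rfl (Subtype.ext (mul_left_cancel (mul_right_cancel (mul_left_cancel h'))))
  have hbij : Function.Bijective f := by
    refine (Fintype.bijective_iff_injective_and_card f).2 ⟨hinj, ?_⟩
    rw [← Nat.card_eq_fintype_card, ← Nat.card_eq_fintype_card, Nat.card_prod]
    have h1 := H.card_US_inv' (R := F) σ⁻¹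
    have h2 := H.card_US_inv' (R := F) τ⁻¹
    rw [h1, h2]
    have := ilen_sMul hσ
    rw [ilen, ilen] at this
    rw [hτ, this, pow_succ, Nat.card_eq_fintype_card, mul_comm]
  rw [GRep.A, cellSum, cellSum, finsum_eq_sum_of_fintype, finsum_eq_sum_of_fintype, Finset.smul_sum]
  simp only [map_sum]
  rw [← Fintype.sum_prod_type']
  refine Fintype.sum_equiv (Equiv.ofBijective f hbij) _ _ fun x => ?_
  have hn : n ∈ D.group F := C.monomial_le_group (C.rep_mem σ)
  have hn' : n' ∈ D.group F := C.monomial_le_group (C.rep_mem τ)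
  rw [← ρ.mul_apply (mem_XP H i _) (mul_mem (C.US_le_group _ x.2.2) hn),
    show C.X F (C.p i) x.1 * C.P F i * ((x.2 : GL D.Idx F) * n) = ((f x : S') : GL D.Idx F) * n' * (n'⁻¹ * (C.P F i * n)) by
      simp only [f]; group,
    he, ρ.mul_apply (mul_mem (C.US_le_group _ (f x).2) hn') (C.HT_mem_group e), ha, map_smul]
  rfl

theorem cellSum_one {m : W} (hm : ρ.Sing C m) (hm0 : m ≠ 0) :
    ∃ a : k, a ≠ 0 ∧ cellSum ρ (1 : C.WG) m = a • m := by
  classical
  haveI := Finite.of_injective (fun g : GL D.Idx F => (g : Matrix D.Idx D.Idx F)) Units.val_injective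
  have hbot : C.US F (C.inv' (((1 : C.WG)⁻¹ : C.WG) : Equiv.Perm (Rt D))) = ⊥ := by
    rw [eq_bot_iff]
    refine (Subgroup.closure_le _).2 ?_
    rintro x ⟨r, ⟨hr, hr'⟩, -⟩
    rw [inv_one, OneMemClass.coe_one, Equiv.Perm.one_apply] at hr'
    exact absurd hr ((C.neg_iff_not_pos _).1 hr')
  have hd : C.rep F (1 : C.WG) ∈ D.diagonalSubgroup F :=
    C.mem_diagonal_of_acts_one (C.rep_mem 1) (C.acts_rep F 1)
  obtain ⟨e, he⟩ := C.mem_diagonal_iff.1 hd
  obtain ⟨a, ha⟩ := hm.torus e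
  refine ⟨a, fun h => hm0 ?_, ?_⟩
  · have := ρ.inv_apply (C.HT_mem_group e) m
    rw [ha, h, zero_smul, map_zero] at this
    exact this.symm
  · have hs : ∀ v : C.US F (C.inv' (((1 : C.WG)⁻¹ : C.WG) : Equiv.Perm (Rt D))), v = 1 := fun v =>
      Subtype.ext (Subgroup.mem_bot.1 (hbot ▸ v.2))
    rw [cellSum, finsum_eq_single _ 1 (fun v hv => absurd (hs v) hv), OneMemClass.coe_one, one_mul, he, ha]

theorem sing_cellSum {m : W} (hm : ρ.Sing C m) (hm0 : m ≠ 0) : ∀ (n : ℕ) (σ : C.WG), ilen C σ = n →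
    ρ.Sing C (cellSum ρ σ m) := by
  intro n
  induction n using Nat.strong_induction_on with
  | _ n ih =>
  intro σ hσn
  by_cases h1 : σ = 1
  · subst h1
    obtain ⟨a, -, ha⟩ := cellSum_one H hm hm0
    rw [ha]
    exact hm.smul a
  have hne : C.pprod (C.mem_WG_iff.1 (σ⁻¹ : C.WG).2).choose ≠ 1 := by
    rw [C.pprod_choose]
    exact fun h => h1 (inv_eq_one.1 (Subtype.ext h))
  obtain ⟨i, hi⟩ := C.exists_descent hne
  rw [C.pprod_choose] at hi
  have hτ : (((sMul C i σ)⁻¹ : C.WG) : Equiv.Perm (Rt D)) (C.p i) ∈ C.Pos := by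
    rw [sMul_inv_apply, C.w_p, C.WG_rev]
    exact C.rev_pos hi
  have hl := ilen_sMul hτ
  rw [sMul_sMul] at hl
  obtain ⟨a, ha0, ha⟩ := cellSum_step H hm i (sMul C i σ) hτ hm0
  rw [sMul_sMul] at ha
  have hs := (ih _ (by omega) (sMul C i σ) rfl).A H i
  rw [ha] at hs
  have := hs.smul a⁻¹
  rwa [smul_smul, inv_mul_cancel₀ ha0, one_smul] at this

variable [IsAlgClosed k] [CharP k (ringChar F)] [FiniteDimensional k W]

theorem exists_sing [Nontrivial W] : ∃ m : W, m ≠ 0 ∧ ρ.Sing C m := by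
  classical
  haveI := Finite.of_injective (fun g : GL D.Idx F => (g : Matrix D.Idx D.Idx F)) Units.val_injective
  let X : Submodule k W :=
    { carrier := {w | ∀ u ∈ C.US F C.Pos, ρ.toFun u w = w}
      add_mem' := fun ha hb u hu => by rw [map_add, ha u hu, hb u hu]
      zero_mem' := fun u _ => map_zero _
      smul_mem' := fun a w hw u hu => by rw [map_smul, hw u hu] }
  have key : ∀ s : Finset (Fin D.rank → Fˣ), ∃ Y : Submodule k W, Y ≠ ⊥ ∧ Y ≤ X ∧
      (∀ c, ∀ y ∈ Y, ρ.toFun (C.HT F c) y ∈ Y) ∧ ∀ c ∈ s, ∃ a : k, ∀ y ∈ Y, ρ.toFun (C.HT F c) y = a • y := by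
    intro s
    induction s using Finset.induction_on with
    | empty =>
      obtain ⟨w, hw0, hw⟩ := exists_fixed H ρ
      refine ⟨X, fun h => hw0 ?_, le_rfl, fun c y hy u hu => ?_, by simp⟩
      · have : w ∈ X := hw
        rwa [h, Submodule.mem_bot] at this
      · have hu' : (C.HT F c)⁻¹ * u * C.HT F c ∈ C.US F C.Pos := by
          have := (Subgroup.mem_normalizer_iff.1 (C.diag_le_normalizer C.Pos (inv_mem (C.HT_mem_diagonal c))) u).1 hu
          rwa [inv_inv] at this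
        rw [← ρ.mul_apply (C.US_le_group _ hu) (C.HT_mem_group c),
          show u * C.HT F c = C.HT F c * ((C.HT F c)⁻¹ * u * C.HT F c) by group,
          ρ.mul_apply (C.HT_mem_group c) (C.US_le_group _ hu'), hy _ hu']
    | insert c s _ ih =>
      obtain ⟨Y, hY0, hYX, hYT, hY⟩ := ih
      haveI : Nontrivial Y := Submodule.nontrivial_iff_ne_bot.2 hY0
      obtain ⟨a, ha⟩ := Module.End.exists_eigenvalue ((ρ.toFun (C.HT F c)).restrict (hYT c))
      obtain ⟨⟨v, hvY⟩, hv⟩ := ha.exists_hasEigenvector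
      refine ⟨Y ⊓ LinearMap.ker (ρ.toFun (C.HT F c) - a • LinearMap.id), fun h => hv.2 ?_, inf_le_left.trans hYX,
        fun d y hy => ?_, fun d hd => ?_⟩
      · have e := congrArg Subtype.val hv.apply_eq_smul
        have : v ∈ Y ⊓ LinearMap.ker (ρ.toFun (C.HT F c) - a • LinearMap.id) := by
          refine ⟨hvY, ?_⟩
          rw [SetLike.mem_coe, LinearMap.mem_ker]
          simpa [sub_eq_zero] using e
        rw [h, Submodule.mem_bot] at this
        exact Subtype.ext this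
      · refine ⟨hYT d y hy.1, ?_⟩
        have e : ρ.toFun (C.HT F c) y = a • y := by simpa [sub_eq_zero] using hy.2
        simp only [SetLike.mem_coe, LinearMap.mem_ker, LinearMap.sub_apply, LinearMap.smul_apply, LinearMap.id_apply,
          sub_eq_zero]
        rw [← ρ.mul_apply (C.HT_mem_group c) (C.HT_mem_group d), C.HT_mul, mul_comm c d, ← C.HT_mul,
          ρ.mul_apply (C.HT_mem_group d) (C.HT_mem_group c), e, map_smul]
      · rcases Finset.mem_insert.1 hd with rfl | hd'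
        · exact ⟨a, fun y hy => by simpa [sub_eq_zero] using hy.2⟩
        · exact (hY d hd').imp fun b hb y hy => hb y hy.1
  obtain ⟨Y, hY0, hYX, -, hY⟩ := key Finset.univ
  obtain ⟨m, hmY, hm0⟩ := (Submodule.ne_bot_iff Y).1 hY0
  exact ⟨m, hm0, hYX hmY, fun c => (hY c (Finset.mem_univ c)).imp fun a ha => ha m hmY⟩

/-- Every representation has a highest weight vector. -/
theorem exists_hw [Nontrivial W] : ∃ (P : Param k D F) (m : W), ρ.HW C P m := by
  classical
  haveI := ringChar.charP F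
  obtain ⟨m₀, hm₀0, hm₀⟩ := exists_sing (ρ := ρ) H
  haveI := Fintype.ofFinite C.WG
  obtain ⟨σ, hσmem, hσmax⟩ := Finset.exists_max_image
    (Finset.univ.filter fun σ : C.WG => cellSum ρ σ m₀ ≠ 0) (ilen C) ⟨1, by
      obtain ⟨a, ha0, ha⟩ := cellSum_one H hm₀ hm₀0
      simp [ha, ha0, hm₀0]⟩
  have hm0 : cellSum ρ σ m₀ ≠ 0 := (Finset.mem_filter.1 hσmem).2
  have hm := sing_cellSum H hm₀ hm₀0 _ σ rfl
  set m := cellSum ρ σ m₀ with hm_def
  choose a ha using hm.torus
  have hamul : ∀ c d, a (c * d) = a c * a d := by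
    intro c d
    refine smul_left_injective k hm0 ?_
    show a (c * d) • m = (a c * a d) • m
    rw [← ha, ← C.HT_mul, ρ.mul_apply (C.HT_mem_group c) (C.HT_mem_group d), ha, map_smul, ha, smul_smul, mul_comm]
  have ha1 : a 1 = 1 := by
    refine smul_left_injective k hm0 ?_
    show a 1 • m = (1 : k) • m
    rw [← ha, C.HT_one, ρ.one_apply, one_smul]
  let χ : (Fin D.rank → Fˣ) →* k := { toFun := a, map_one' := ha1, map_mul' := hamul }
  let ψ : Fin D.rank → Fˣ →* kˣ := fun i => (χ.comp (MonoidHom.mulSingle (fun _ : Fin D.rank => Fˣ) i)).toHomUnits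
  have hψ : ∀ c, a c = ((∏ i, ψ i (c i) : kˣ) : k) := by
    intro c
    rw [Units.coe_prod]
    conv_lhs => rw [← Finset.univ_prod_mulSingle c]
    exact map_prod χ _ _
  have heig : ∀ i, ∃ μ : k, ρ.A C i m = μ • m ∧ (μ = 0 ∨ ψ i = 1 ∧ μ = -1) := by
    intro i
    have hθ : ∀ b, ρ.toFun (Core.hD F (C.p i) b) m = (ψ i b : k) • m := fun b => by
      rw [← C.HT_single, ha]; rfl
    have hquad := A_A H i hm (fun b => (ψ i b : k)) hθ
    set S : k := ∑ s : Fˣ, ((ψ i (-s) : kˣ) : k) with hS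
    have hμ : ∃ μ : k, ρ.A C i m = μ • m := by
      by_cases hpos : ((σ⁻¹ : C.WG) : Equiv.Perm (Rt D)) (C.p i) ∈ C.Pos
      · obtain ⟨b, -, hb⟩ := cellSum_step H hm₀ i σ hpos hm₀0
        have : cellSum ρ (sMul C i σ) m₀ = 0 := by
          by_contra h
          have h1 := hσmax (sMul C i σ) (Finset.mem_filter.2 ⟨Finset.mem_univ _, h⟩)
          have h2 := ilen_sMul hpos
          omega
        exact ⟨0, by rw [hm_def, hb, this, smul_zero, zero_smul]⟩
      · have hτ : (((sMul C i σ)⁻¹ : C.WG) : Equiv.Perm (Rt D)) (C.p i) ∈ C.Pos := by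
          rw [sMul_inv_apply, C.w_p, C.WG_rev]
          exact C.rev_pos ((C.neg_iff_not_pos _).2 hpos)
        obtain ⟨b, hb0, hb⟩ := cellSum_step H hm₀ i (sMul C i σ) hτ hm₀0
        rw [sMul_sMul, ← hm_def] at hb
        set y := cellSum ρ (sMul C i σ) m₀
        have hy : ρ.Sing C y := sing_cellSum H hm₀ hm₀0 _ _ rfl
        choose θ hθy using fun b : Fˣ => hy.torus (fun j => b ^ co D (C.p i) j)
        have hq := A_A H i hy θ fun b => by rw [C.hD_eq_HT]; exact hθy b
        rw [hb, A_smul] at hq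
        refine ⟨∑ s : Fˣ, θ (-s), ?_⟩
        rw [smul_comm] at hq
        exact smul_right_injective W hb0 hq
    obtain ⟨μ, hμ⟩ := hμ
    refine ⟨μ, hμ, ?_⟩
    rw [hμ, A_smul, hμ, smul_smul, smul_smul] at hquad
    have h2 : μ * μ = S * μ := smul_left_injective k hm0 hquad
    rcases eq_or_ne μ 0 with h | h
    · exact Or.inl h
    · have hμS : μ = S := mul_right_cancel₀ h h2
      have hsum : S = ∑ s : Fˣ, (Units.coeHom k).comp (ψ i) s :=
        Fintype.sum_equiv (Equiv.neg Fˣ) _ _ fun s => rfl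
      rw [sum_hom_units] at hsum
      by_cases h1 : (Units.coeHom k).comp (ψ i) = 1
      · refine Or.inr ⟨MonoidHom.ext fun b => Units.ext (DFunLike.congr_fun h1 b), ?_⟩
        rw [hμS, hsum, if_pos h1, Fintype.card_units, Nat.cast_sub Fintype.card_pos, Nat.cast_one]
        have : ((Fintype.card F : ℕ) : k) = 0 := by
          rw [CharP.cast_eq_zero_iff k (ringChar F), ← CharP.cast_eq_zero_iff F (ringChar F)]
          exact Nat.cast_card_eq_zero F
        rw [this, zero_sub]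
      · exact absurd (by rw [hμS, hsum, if_neg h1, Nat.cast_zero]) h
  choose μ hμ hμ' using heig
  refine ⟨fun i => if μ i = 0 then some (ψ i) else none, m, hm0, hm.fixed, fun c => ?_, fun i => ?_⟩
  · rw [ha, hψ]
    congr 2
    refine Finset.prod_congr rfl fun i _ => ?_
    by_cases h : μ i = 0
    · simp [h]
    · simp [h, ((hμ' i).resolve_left h).1]
  · rw [hμ]
    congr 1
    by_cases h : μ i = 0
    · simp [mu, h]
    · simp [mu, h, ((hμ' i).resolve_left h).2]

omit [IsAlgClosed k] [CharP k (ringChar F)] in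
theorem irr_dual (hρ : ρ.Irr) : ρ.dual.Irr := by
  haveI := hρ.nontriv
  refine ⟨inferInstance, fun E hE => ?_⟩
  have hst : ρ.Stable E.dualCoannihilator := by
    intro g hg x hx
    rw [Submodule.mem_dualCoannihilator] at hx ⊢
    intro φ hφ
    have := hx _ (hE g⁻¹ (inv_mem hg) φ hφ)
    simpa [GRep.dual] using this
  rcases hρ.simple _ hst with h | h
  · right
    have := Subspace.dualCoannihilator_dualAnnihilator_eq (W := E)
    rw [← this, h, Submodule.dualAnnihilator_bot]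
  · left
    have := Subspace.dualCoannihilator_dualAnnihilator_eq (W := E)
    rw [← this, h, Submodule.dualAnnihilator_top]

theorem fixed_proportional (hρ : ρ.Irr) {v v' : W} (hv : ∀ u ∈ C.US F C.Pos, ρ.toFun u v = v)
    (hv0 : v ≠ 0) (hv' : ∀ u ∈ C.US F C.Pos, ρ.toFun u v' = v') : ∃ a : k, v' = a • v := by
  haveI := hρ.nontriv
  have hd := irr_dual H hρ
  obtain ⟨P, ψ, hψ⟩ := exists_hw (ρ := ρ.dual) H
  have hspan := span_top H hd hψ
  obtain ⟨L, -, hL⟩ := C.exists_opposition (F := F)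
  set w := C.wprod F L
  have hw : w ∈ D.group F := C.monomial_le_group (C.wprod_mem_monomial L)
  have hfix : ∀ x : W, (∀ u ∈ C.US F C.Pos, ρ.toFun u x = x) →
      ρ.dual.Inv (C.US F C.Neg) (Module.Dual.eval k W (ρ.toFun w x)) := by
    intro x hx g hg φ
    obtain ⟨u, hu, rfl⟩ := hL.ge hg
    have hum := C.US_le_group _ hu
    simp only [MulEquiv.coe_toMonoidHom, MulAut.conj_apply, Module.Dual.eval_apply, GRep.dual, LinearMap.dualMap_apply]
    rw [show (w * u * w⁻¹)⁻¹ = w * (u⁻¹ * w⁻¹) by group, ρ.mul_apply hw (mul_mem (inv_mem hum) (inv_mem hw)),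
      ρ.mul_apply (inv_mem hum) (inv_mem hw), ρ.inv_apply hw, hx _ (inv_mem hu)]
  set φ := Module.Dual.eval k W (ρ.toFun w v) with hφ
  have hφ0 : φ ψ ≠ 0 := by
    intro h
    have h1 := inv_eq_zero H hspan (hfix v hv) h
    have h2 : ρ.toFun w v = 0 := Module.eval_apply_injective k (by rw [h1, map_zero])
    have := ρ.inv_apply hw v
    rw [h2, map_zero] at this
    exact hv0 this.symm
  refine ⟨Module.Dual.eval k W (ρ.toFun w v') ψ / φ ψ, ?_⟩
  set a := Module.Dual.eval k W (ρ.toFun w v') ψ / φ ψ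
  have h1 : Module.Dual.eval k W (ρ.toFun w v') - a • φ = 0 := by
    refine inv_eq_zero H hspan (fun u hu x => ?_) ?_
    · simp [hfix v hv u hu x, hfix v' hv' u hu x, hφ]
    · simp [a, div_mul_cancel₀ _ hφ0]
  have h2 : ρ.toFun w v' = ρ.toFun w (a • v) := by
    refine Module.eval_apply_injective k ?_
    rw [map_smul, map_smul, ← hφ, ← sub_eq_zero]
    exact h1
  have := congrArg (ρ.toFun w⁻¹) h2
  rwa [ρ.inv_apply hw, ρ.inv_apply hw] at this

/-- The parameter of an irreducible representation is unique. -/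
theorem param_unique (hρ : ρ.Irr) {P P' : Param k D F} {m m' : W} (hm : ρ.HW C P m) (hm' : ρ.HW C P' m') :
    P = P' := by
  obtain ⟨a, rfl⟩ := fixed_proportional H hρ hm.fixed hm.ne_zero hm'.fixed
  have hμ : ∀ i, mu P i = mu P' i := fun i => smul_left_injective k hm'.ne_zero (by
    show mu P i • a • m = mu P' i • a • m
    rw [← hm'.eigen i, A_smul, hm.eigen i, smul_comm])
  have hχ : ∀ c, chi P c = chi P' c := fun c => Units.ext (smul_left_injective k hm'.ne_zero (by
    show (chi P c : k) • a • m = (chi P' c : k) • a • m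
    rw [← hm'.torus c, map_smul, hm.torus c, smul_comm]))
  funext i
  have hi : (P i).getD 1 = (P' i).getD 1 := by
    ext b
    have hsingle : ∀ Q : Param k D F, chi Q (Pi.mulSingle i b) = (Q i).getD 1 b := fun Q => by
      rw [chi, Finset.prod_eq_single i (fun j _ hj => by simp [hj]) (by simp), Pi.mulSingle_eq_same]
    rw [← hsingle P, ← hsingle P', hχ]
  have h := hμ i
  cases hP : P i <;> cases hP' : P' i <;> simp_all [mu]

end Cfsg.Agent.Lib.CurtisRichen.GRep
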